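import Cfsg.Agent.H55.G2Cov.States

/-!
`G₂`: the image `x` of a companion matrix in the Levi subgroup absorbs the two unipotent radicals.
-/

set_option autoImplicit false

namespace H55
namespace G2Cov

open Cfsg.Lie Matrix

variable {F : Type*} [Field F]

/-- Every left multiple of `x` by an element of `K` is a `K`-conjugate of `x`. -/
def Absorb (x : GL chevG2.Idx F) (K : Subgroup (GL chevG2.Idx F)) : Prop :=
  ∀ v ∈ K, ∃ r ∈ K, r * x * r⁻¹ = v * x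

theorem absorb_lift {x : GL chevG2.Idx F} {K K' : Subgroup (GL chevG2.Idx F)} (hle : K' ≤ K)
    (hn : K ≤ Subgroup.normalizer (K' : Set (GL chevG2.Idx F))) (hK' : Absorb x K')
    (hf : ∀ v ∈ K, ∃ r ∈ K, (r * x * r⁻¹ * x⁻¹)⁻¹ * v ∈ K') : Absorb x K := by
  intro v hv
  obtain ⟨r, hr, hk⟩ := hf v hv
  set f := r * x * r⁻¹ * x⁻¹ with hf'
  have hfK : f ∈ K := by
    have := mul_mem hv (inv_mem (hle hk))
    rwa [show v * (f⁻¹ * v)⁻¹ = f by group] at this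
  obtain ⟨s, hs, hsx⟩ := hK' _ (conj_mem (hn (mul_mem (inv_mem hr) hfK)) hk)
  refine ⟨r * s, mul_mem hr (hle hs), ?_⟩
  calc r * s * x * (r * s)⁻¹ = r * (s * x * s⁻¹) * r⁻¹ := by group
    _ = v * x := by rw [hsx, hf']; group

theorem absorb_right {x : GL chevG2.Idx F} {K : Subgroup (GL chevG2.Idx F)}
    (hx : x ∈ Subgroup.normalizer (K : Set (GL chevG2.Idx F))) (h : Absorb x K)
    {p : GL chevG2.Idx F} (hp : p ∈ K) : ∃ r ∈ K, r * x * r⁻¹ = x * p := by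
  obtain ⟨r, hr, e⟩ := h _ (conj_mem hx hp)
  exact ⟨r, hr, by rw [e]; group⟩

/-- Congruence modulo `K'`. -/
def Md (K' : Subgroup (GL chevG2.Idx F)) (a b : GL chevG2.Idx F) : Prop := a⁻¹ * b ∈ K'

section Md

variable {K' : Subgroup (GL chevG2.Idx F)} {a a' b b' c : GL chevG2.Idx F}

theorem md_refl (a : GL chevG2.Idx F) : Md K' a a := by simp [Md]

theorem md_of_eq (h : a = b) : Md K' a b := h ▸ md_refl a

theorem Md.symm (h : Md K' a b) : Md K' b a := by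
  have := inv_mem h
  rwa [_root_.mul_inv_rev, inv_inv] at this

theorem Md.trans (h : Md K' a b) (h' : Md K' b c) : Md K' a c := by
  have := mul_mem h h'
  rwa [mul_assoc, mul_inv_cancel_left] at this

theorem Md.mul (hb : b ∈ Subgroup.normalizer (K' : Set (GL chevG2.Idx F))) (h : Md K' a a')
    (h' : Md K' b b') : Md K' (a * b) (a' * b') := by
  have := mul_mem (conj_mem (inv_mem hb) h) h'
  rwa [show b⁻¹ * (a⁻¹ * a') * b⁻¹⁻¹ * (b⁻¹ * b') = (a * b)⁻¹ * (a' * b') by group] at this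

theorem Md.mul_left (h : Md K' a a') (c : GL chevG2.Idx F) : Md K' (c * a) (c * a') := by
  rwa [Md, show (c * a)⁻¹ * (c * a') = a⁻¹ * a' by group]

theorem Md.conj (hc : c ∈ Subgroup.normalizer (K' : Set (GL chevG2.Idx F))) (h : Md K' a a') :
    Md K' (c * a * c⁻¹) (c * a' * c⁻¹) := by
  have := conj_mem hc h
  rwa [show c * (a⁻¹ * a') * c⁻¹ = (c * a * c⁻¹)⁻¹ * (c * a' * c⁻¹) by group] at this

end Md

theorem conj_fix {r s : ℕ} (hr : r < 12) (hs : s < 12) (hrs : s ≠ r) (hneg : s ≠ chevG2.neg r)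
    (hT : chevG2.commTerms r s = []) (t u : F) : X s u * X r t * (X s u)⁻¹ = X r t := by
  rw [hC.comm_rt hr hs hrs hneg]
  simp [Cfsg.Lie.ChevalleyDatum.commWord, hT, H52.wordRt]

theorem conj_first {K' : Subgroup (GL chevG2.Idx F)} {r s k : ℕ} {C : ℤ}
    (hr : r < 12) (hs : s < 12) (hk : k < 12) (hrs : s ≠ r) (hneg : s ≠ chevG2.neg r)
    (hks : s ≠ k) (hkneg : s ≠ chevG2.neg k) (hT : (chevG2.commTerms r s).head? = some (k, C, 1, 1))
    (hrest : ∀ c ∈ (chevG2.commTerms r s).tail, ∀ t : F, X c.1 t ∈ K')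
    (hk0 : chevG2.commTerms k s = []) (t u : F)
    (hN : X s u ∈ Subgroup.normalizer (K' : Set (GL chevG2.Idx F))) :
    Md K' (X s u * X r t * (X s u)⁻¹) (X r t * X k (-((C : F) * t * u))) := by
  cases hl : chevG2.commTerms r s with
  | nil => rw [hl] at hT; simp at hT
  | cons c rest =>
    rw [hl] at hT hrest
    simp at hT
    subst hT
    have e : chevG2.commWord F r s t u = (k, (C : F) * (-t) ^ 1 * u ^ 1) ::
        rest.map fun c => (c.1, (c.2.1 : F) * (-t) ^ c.2.2.1 * u ^ c.2.2.2) := by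
      simp [Cfsg.Lie.ChevalleyDatum.commWord, hl]
    set w : GL chevG2.Idx F := H52.wordRt chevG2
      (rest.map fun c => (c.1, (c.2.1 : F) * (-t) ^ c.2.2.1 * u ^ c.2.2.2)) with hw
    have hwK : w ∈ K' := H52.Checked.wordRt_mem _ _ fun p hp => by
      obtain ⟨c, hc, rfl⟩ := List.mem_map.1 hp
      exact hrest c hc _
    have h1 : X s u * X r t = X r t * X s u * (X k (-((C : F) * t * u)) * w) := by
      rw [hC.comm_rt hr hs hrs hneg, e, show (C : F) * (-t) ^ 1 * u ^ 1 = -((C : F) * t * u) by ring]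
      rfl
    have h2 := conj_fix (F := F) hk hs hks hkneg hk0 (-((C : F) * t * u)) u
    show (X s u * X r t * (X s u)⁻¹)⁻¹ * _ ∈ K'
    have h3 : X s u * X r t * (X s u)⁻¹ =
        X r t * X k (-((C : F) * t * u)) * (X s u * w * (X s u)⁻¹) := by
      conv_rhs => rw [mul_assoc (X r t), ← h2]
      rw [h1]
      group
    rw [h3, show (X r t * X k (-((C : F) * t * u)) * (X s u * w * (X s u)⁻¹))⁻¹ *
      (X r t * X k (-((C : F) * t * u))) = (X s u * w * (X s u)⁻¹)⁻¹ by group]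
    exact inv_mem (conj_mem hN hwK)

/-! ### The element -/

/-- The companion matrix in `GL₂`. -/
def compGL (τ : F) (N : Fˣ) : GL (Fin 2) F :=
  ⟨comp τ N, !![τ / N, 1; -(((N⁻¹ : Fˣ) : F)), 0],
    by ext i j; fin_cases i <;> fin_cases j <;> simp [comp, mul_apply, Fin.sum_univ_two] <;> ring,
    by ext i j; fin_cases i <;> fin_cases j <;> simp [comp, mul_apply, Fin.sum_univ_two] <;> ring⟩

/-- The element of the Levi subgroup. -/
noncomputable def xe (τ : F) (N : Fˣ) : GL chevG2.Idx F := psi (compGL τ N)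

theorem xe_eq (τ : F) (N : Fˣ) : xe τ N = dd N * (X 6 (-1) * X 5 1 * X 6 (τ - 1)) := by
  have hd : GeneralLinearGroup.det (compGL τ N) = N := Units.ext (det_comp τ (N : F))
  have hs : spart (compGL τ N) = up (-1) * lo 1 * up (τ - 1) := by
    apply Subtype.ext
    show !![_, _; _, _] = _
    rw [sl_val_mul, sl_val_mul]
    ext i j
    fin_cases i <;> fin_cases j <;>
      simp [compGL, comp, up, lo, det_fin_two, mul_apply, Fin.sum_univ_two] <;> field_simp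
  rw [xe, psi_apply, hd, hs, map_mul, map_mul, phi_up, phi_lo, phi_up]
  rfl

theorem xe_mem_norm (τ : F) (N : Fˣ) {σ : ℤ} {m : ℕ} (hm : 1 ≤ m) :
    xe τ N ∈ Subgroup.normalizer (L F 0 σ m : Set (GL chevG2.Idx F)) := psi_mem_norm _ hm

theorem L_le_norm {σ : ℤ} {m m' : ℕ} (hm' : 1 ≤ m') :
    L F 0 σ m ≤ Subgroup.normalizer (L F 0 σ m' : Set (GL chevG2.Idx F)) := by
  refine (Subgroup.closure_le _).2 ?_
  rintro _ ⟨r, t, ⟨hr, h⟩, rfl⟩
  exact X_mem_norm (by norm_num) hm' hr (le_trans (by positivity) h) t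

/-- The facts about a layer of two roots. -/
structure Pair (σ : ℤ) (m r₀ r₁ : ℕ) (C : ℤ) : Prop where
  hm : 1 ≤ m
  hC2 : C * C = 1
  lt₀ : r₀ < 12
  lt₁ : r₁ < 12
  mem₀ : InL 0 σ m r₀
  mem₁ : InL 0 σ m r₁
  cover : ∀ u < 12, InL 0 σ m u → u = r₀ ∨ u = r₁ ∨ InL 0 σ (m + 1) u
  ne : r₁ ≠ r₀ ∧ r₁ ≠ chevG2.neg r₀
  comm : ∀ c ∈ chevG2.commTerms r₀ r₁, InL 0 σ (m + 1) c.1
  side : 6 ≠ r₀ ∧ 6 ≠ chevG2.neg r₀ ∧ 6 ≠ r₁ ∧ 6 ≠ chevG2.neg r₁ ∧
    5 ≠ r₀ ∧ 5 ≠ chevG2.neg r₀ ∧ 5 ≠ r₁ ∧ 5 ≠ chevG2.neg r₁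
  six : (chevG2.commTerms r₀ 6).head? = some (r₁, C, 1, 1) ∧
    (∀ c ∈ (chevG2.commTerms r₀ 6).tail, InL 0 σ (m + 1) c.1) ∧ chevG2.commTerms r₁ 6 = []
  five : (chevG2.commTerms r₁ 5).head? = some (r₀, C, 1, 1) ∧
    (∀ c ∈ (chevG2.commTerms r₁ 5).tail, InL 0 σ (m + 1) c.1) ∧ chevG2.commTerms r₀ 5 = []

theorem absorb_pair {σ : ℤ} {m r₀ r₁ : ℕ} {C : ℤ} (hP : Pair σ m r₀ r₁ C) (τ : F) (N : Fˣ)
    (hdet : 1 - (ev N (N ^ 2) r₀ : F) * τ + (ev N (N ^ 2) r₀ : F) * (ev N (N ^ 2) r₁ : F) ≠ 0)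
    (hnext : Absorb (xe τ N) (L F 0 σ (m + 1))) : Absorb (xe τ N) (L F 0 σ m) := by
  obtain ⟨h60, h60', h61, h61', h50, h50', h51, h51'⟩ := hP.side
  have hm1 : 1 ≤ m + 1 := Nat.le_add_left 1 m
  set K' := L F 0 σ (m + 1) with hK'
  set E : F → F → GL chevG2.Idx F := fun a b => X r₀ a * X r₁ b with hE
  have hEK : ∀ a b, E a b ∈ L F 0 σ m := fun a b =>
    mul_mem (X_mem_L hP.mem₀ a) (X_mem_L hP.mem₁ b)
  have hEN : ∀ a b, E a b ∈ Subgroup.normalizer (K' : Set (GL chevG2.Idx F)) := fun a b =>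
    L_le_norm hm1 (hEK a b)
  have hXN : ∀ u : F, X 6 u ∈ Subgroup.normalizer (K' : Set (GL chevG2.Idx F)) ∧
      X 5 u ∈ Subgroup.normalizer (K' : Set (GL chevG2.Idx F)) := fun u =>
    ⟨X_mem_norm (by norm_num) hm1 (by norm_num)
      (by rw [show co 6 0 = 0 by decide, mul_zero]) u,
     X_mem_norm (by norm_num) hm1 (by norm_num)
      (by rw [show co 5 0 = 0 by decide, mul_zero]) u⟩
  have hadd : ∀ a b c d, Md K' (E a b * E c d) (E (a + c) (b + d)) := by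
    intro a b c d
    have hw : H52.wordRt chevG2 (chevG2.commWord F r₀ r₁ c b) ∈ K' :=
      H52.Checked.wordRt_mem _ _ fun p hp => by
        obtain ⟨e, he, rfl⟩ := List.mem_map.1 hp
        exact X_mem_L (hP.comm e he) _
    set w := H52.wordRt chevG2 (chevG2.commWord F r₀ r₁ c b)
    have hc : X r₁ b * X r₀ c = X r₀ c * X r₁ b * w :=
      hC.comm_rt hP.lt₀ hP.lt₁ hP.ne.1 hP.ne.2 c b
    have e1 : E a b * E c d =
        X r₀ (a + c) * (X r₁ (b + d) * ((X r₁ d)⁻¹ * w * (X r₁ d)⁻¹⁻¹)) := by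
      show X r₀ a * X r₁ b * (X r₀ c * X r₁ d) = _
      rw [show X r₁ (b + d) = X r₁ b * X r₁ d from (hC.rt_mul r₁ b d).symm,
        show X r₀ (a + c) = X r₀ a * X r₀ c from (hC.rt_mul r₀ a c).symm,
        show X r₀ a * X r₁ b * (X r₀ c * X r₁ d) = X r₀ a * (X r₁ b * X r₀ c) * X r₁ d by group, hc]
      group
    show _ ∈ K'
    rw [e1, show (X r₀ (a + c) * (X r₁ (b + d) * ((X r₁ d)⁻¹ * w * (X r₁ d)⁻¹⁻¹)))⁻¹ *
      E (a + c) (b + d) = ((X r₁ d)⁻¹ * w * (X r₁ d)⁻¹⁻¹)⁻¹ by simp only [hE]; group]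
    exact inv_mem (conj_mem (inv_mem (L_le_norm hm1 (X_mem_L hP.mem₁ d))) hw)
  have hzero : E 0 0 = 1 := by
    show H52.rt chevG2 r₀ 0 * H52.rt chevG2 r₁ 0 = 1
    rw [hC.rt_zero, hC.rt_zero, one_mul]
  have hneg : ∀ a b, Md K' (E a b)⁻¹ (E (-a) (-b)) := by
    intro a b
    have := (hadd a b (-a) (-b)).mul_left (E a b)⁻¹
    rw [add_neg_cancel, add_neg_cancel, hzero, mul_one, inv_mul_cancel_left] at this
    exact this.symm
  have hgen : ∀ v ∈ L F 0 σ m, ∃ a b, Md K' v (E a b) := by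
    intro v hv
    induction hv using Subgroup.closure_induction with
    | mem v hv =>
      obtain ⟨u, t, ⟨hu, hh⟩, rfl⟩ := hv
      rcases hP.cover u hu ⟨hu, hh⟩ with rfl | rfl | h
      · refine ⟨t, 0, md_of_eq ?_⟩
        show _ = X u t * H52.rt chevG2 r₁ 0
        rw [hC.rt_zero, mul_one]
      · refine ⟨0, t, md_of_eq ?_⟩
        show _ = H52.rt chevG2 r₀ 0 * X u t
        rw [hC.rt_zero, one_mul]
      · refine ⟨0, 0, ?_⟩
        rw [hzero]
        show _ ∈ K'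
        rw [mul_one]
        exact inv_mem (X_mem_L h t)
    | one => exact ⟨0, 0, md_of_eq hzero.symm⟩
    | mul x y hx hy ihx ihy =>
      obtain ⟨a, b, hab⟩ := ihx
      obtain ⟨c, d, hcd⟩ := ihy
      exact ⟨_, _, (Md.mul (L_le_norm hm1 hy) hab hcd).trans (hadd a b c d)⟩
    | inv x hx ihx =>
      obtain ⟨a, b, hab⟩ := ihx
      refine ⟨-a, -b, Md.trans ?_ (hneg a b)⟩
      show x⁻¹⁻¹ * (E a b)⁻¹ ∈ K'
      have := conj_mem (L_le_norm hm1 hx) (inv_mem hab)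
      rwa [show x * (x⁻¹ * E a b)⁻¹ * x⁻¹ = x⁻¹⁻¹ * (E a b)⁻¹ by group] at this
  have h6 : ∀ u a b, Md K' (X 6 u * E a b * (X 6 u)⁻¹) (E a (b - (C : F) * a * u)) := by
    intro u a b
    rw [show X 6 u * E a b * (X 6 u)⁻¹ =
      (X 6 u * X r₀ a * (X 6 u)⁻¹) * (X 6 u * X r₁ b * (X 6 u)⁻¹) by simp only [hE]; group]
    have h1 := conj_first (K' := K') hP.lt₀ (by norm_num) hP.lt₁ h60 h60' h61 h61' hP.six.1
      (fun c hc t => X_mem_L (hP.six.2.1 c hc) t) hP.six.2.2 a u (hXN u).1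
    have h2 := conj_fix (F := F) hP.lt₁ (by norm_num) h61 h61' hP.six.2.2 b u
    rw [h2]
    refine (Md.mul (L_le_norm hm1 (X_mem_L hP.mem₁ b)) h1 (md_refl _)).trans (md_of_eq ?_)
    rw [mul_assoc, hC.rt_mul, show -((C : F) * a * u) + b = b - (C : F) * a * u by ring]
  have h5 : ∀ u a b, Md K' (X 5 u * E a b * (X 5 u)⁻¹) (E (a - (C : F) * b * u) b) := by
    intro u a b
    rw [show X 5 u * E a b * (X 5 u)⁻¹ =
      (X 5 u * X r₀ a * (X 5 u)⁻¹) * (X 5 u * X r₁ b * (X 5 u)⁻¹) by simp only [hE]; group]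
    have h1 := conj_first (K' := K') hP.lt₁ (by norm_num) hP.lt₀ h51 h51' h50 h50' hP.five.1
      (fun c hc t => X_mem_L (hP.five.2.1 c hc) t) hP.five.2.2 b u (hXN u).2
    have h2 := conj_fix (F := F) hP.lt₀ (by norm_num) h50 h50' hP.five.2.2 a u
    rw [h2]
    refine (h1.mul_left _).trans ?_
    have e : X r₀ a * (X r₁ b * X r₀ (-((C : F) * b * u))) =
        E a b * E (-((C : F) * b * u)) 0 := by
      show _ = X r₀ a * X r₁ b * (_ * H52.rt chevG2 r₁ 0)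
      rw [hC.rt_zero, mul_one]
      simp only [mul_assoc]
    rw [e]
    refine (hadd _ _ _ _).trans (md_of_eq ?_)
    rw [add_zero, ← sub_eq_add_neg]
  have hd : ∀ a b, dd N * E a b * (dd N)⁻¹ =
      E ((ev N (N ^ 2) r₀ : F) * a) ((ev N (N ^ 2) r₁ : F) * b) := by
    intro a b
    show _ = X r₀ _ * X r₁ _
    rw [dd, ← tor_X N (N ^ 2) hP.lt₀ a, ← tor_X N (N ^ 2) hP.lt₁ b]
    simp only [hE]
    group
  set ν₀ : F := (ev N (N ^ 2) r₀ : F)
  set ν₁ : F := (ev N (N ^ 2) r₁ : F)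
  have hxe : ∀ a b, Md K' (xe τ N * E a b * (xe τ N)⁻¹)
      (E (ν₀ * (τ * a - (C : F) * b)) (ν₁ * ((C : F) * a))) := by
    intro a b
    have hC2 : (C : F) * C = 1 := by rw [← Int.cast_mul, hP.hC2, Int.cast_one]
    have s1 := h6 (τ - 1) a b
    have s2 := (s1.conj (hXN 1).2).trans (h5 1 _ _)
    have s3 := (s2.conj (hXN (-1)).1).trans (h6 (-1) _ _)
    have s4 := (s3.conj (tor_mem_norm N (N ^ 2) 0 σ (m + 1))).trans (md_of_eq (hd _ _))
    rw [xe_eq]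
    refine (md_of_eq ?_).trans (s4.trans (md_of_eq ?_))
    · simp only [dd]; group
    · congr 2
      · linear_combination a * (τ - 1) * hC2
      · linear_combination (-b + (C : F) * a * (τ - 1)) * hC2
  refine absorb_lift (L_mono (Nat.le_succ m)) (L_le_norm hm1) hnext fun v hv => ?_
  obtain ⟨a, b, hab⟩ := hgen v hv
  set D := 1 - ν₀ * τ + ν₀ * ν₁
  have hC2 : (C : F) * C = 1 := by rw [← Int.cast_mul, hP.hC2, Int.cast_one]
  set c₀ := (a - ν₀ * C * b) / D with hc₀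
  set c₁ := b + ν₁ * C * c₀ with hc₁
  refine ⟨E c₀ c₁, hEK _ _, ?_⟩
  have hxN := xe_mem_norm τ N (F := F) (σ := σ) hm1
  have f1 : Md K' (xe τ N * (E c₀ c₁)⁻¹ * (xe τ N)⁻¹)
      (E (ν₀ * (τ * -c₀ - (C : F) * -c₁)) (ν₁ * ((C : F) * -c₀))) :=
    ((hneg c₀ c₁).conj hxN).trans (hxe _ _)
  have f2 := (f1.mul_left (E c₀ c₁)).trans (hadd _ _ _ _)
  have e0 : c₀ * D = a - ν₀ * C * b := div_mul_cancel₀ _ hdet
  have f3 : Md K' (E c₀ c₁ * xe τ N * (E c₀ c₁)⁻¹ * (xe τ N)⁻¹) (E a b) := by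
    refine (md_of_eq (by group)).trans (f2.trans (md_of_eq ?_))
    congr 1
    · rw [hc₁]; linear_combination e0 + (ν₀ * ν₁ * c₀) * hC2
    · rw [hc₁]; ring
  exact f3.trans hab.symm

theorem absorb_single {σ : ℤ} {r : ℕ} (hr : r < 12) (hmem : InL 0 σ 2 r)
    (hcover : ∀ u < 12, InL 0 σ 2 u → u = r ∨ InL 0 σ 3 u)
    (hside : 6 ≠ r ∧ 6 ≠ chevG2.neg r ∧ 5 ≠ r ∧ 5 ≠ chevG2.neg r)
    (h6 : chevG2.commTerms r 6 = []) (h5 : chevG2.commTerms r 5 = []) (τ : F) (N : Fˣ)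
    (hdet : (ev N (N ^ 2) r : F) ≠ 1) (hnext : Absorb (xe τ N) (L F 0 σ 3)) :
    Absorb (xe τ N) (L F 0 σ 2) := by
  set K' := L F 0 σ 3
  have hm1 : 1 ≤ 3 := by norm_num
  have hgen : ∀ v ∈ L F 0 σ 2, ∃ a, Md K' v (X r a) := by
    intro v hv
    induction hv using Subgroup.closure_induction with
    | mem v hv =>
      obtain ⟨u, t, ⟨hu, hh⟩, rfl⟩ := hv
      rcases hcover u hu ⟨hu, hh⟩ with rfl | h
      · exact ⟨t, md_refl _⟩
      · refine ⟨0, ?_⟩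
        show _ * H52.rt chevG2 r 0 ∈ K'
        rw [hC.rt_zero, mul_one]
        exact inv_mem (X_mem_L h t)
    | one => exact ⟨0, md_of_eq (hC.rt_zero r).symm⟩
    | mul x y hx hy ihx ihy =>
      obtain ⟨a, ha⟩ := ihx
      obtain ⟨b, hb⟩ := ihy
      exact ⟨a + b, (Md.mul (L_le_norm hm1 hy) ha hb).trans (md_of_eq (hC.rt_mul r a b))⟩
    | inv x hx ihx =>
      obtain ⟨a, ha⟩ := ihx
      refine ⟨-a, ?_⟩
      show x⁻¹⁻¹ * H52.rt chevG2 r (-a) ∈ K'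
      rw [← hC.rt_inv]
      have := conj_mem (L_le_norm hm1 hx) (inv_mem ha)
      rwa [show x * (x⁻¹ * X r a)⁻¹ * x⁻¹ = x⁻¹⁻¹ * (H52.rt chevG2 r a)⁻¹ by group] at this
  refine absorb_lift (L_mono (by norm_num)) (L_le_norm hm1) hnext fun v hv => ?_
  obtain ⟨a, ha⟩ := hgen v hv
  set ν : F := (ev N (N ^ 2) r : F)
  set c := a / (1 - ν) with hc
  refine ⟨X r c, X_mem_L hmem c, ?_⟩
  have hx : xe τ N * X r (-c) * (xe τ N)⁻¹ = X r (ν * -c) := by
    have e6 := fun u => conj_fix (F := F) hr (by norm_num) hside.1 hside.2.1 h6 (-c) u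
    have e5 := fun u => conj_fix (F := F) hr (by norm_num) hside.2.2.1 hside.2.2.2 h5 (-c) u
    calc xe τ N * X r (-c) * (xe τ N)⁻¹
        = dd N * (X 6 (-1) * (X 5 1 * (X 6 (τ - 1) * X r (-c) * (X 6 (τ - 1))⁻¹) * (X 5 1)⁻¹) *
            (X 6 (-1))⁻¹) * (dd N)⁻¹ := by rw [xe_eq]; group
      _ = _ := by rw [e6, e5, e6, dd, tor_X _ _ hr]
  have e : X r c * xe τ N * (X r c)⁻¹ * (xe τ N)⁻¹ = X r a := by
    calc X r c * xe τ N * (X r c)⁻¹ * (xe τ N)⁻¹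
        = X r c * (xe τ N * (X r c)⁻¹ * (xe τ N)⁻¹) := by group
      _ = X r a := by
        rw [hC.rt_inv, hx, hC.rt_mul]
        congr 1
        have h1 : (1 : F) - ν ≠ 0 := sub_ne_zero.2 (Ne.symm hdet)
        rw [hc]
        field_simp
        ring
  exact (md_of_eq e).trans ha.symm

theorem absorb_four (σ : ℤ) (hσ : σ = 1 ∨ σ = -1) (x : GL chevG2.Idx F) :
    Absorb x (L F 0 σ 4) := by
  intro v hv
  have : L F 0 σ 4 ≤ ⊥ := by
    refine (Subgroup.closure_le _).2 ?_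
    rintro _ ⟨r, t, ⟨hr, h⟩, rfl⟩
    have key : ∀ r < 12, ¬ ((4 : ℤ) ≤ 1 * co r 0) ∧ ¬ ((4 : ℤ) ≤ -1 * co r 0) := by decide
    rcases hσ with rfl | rfl
    · exact absurd h (key r hr).1
    · exact absurd h (key r hr).2
  rw [Subgroup.mem_bot.1 (this hv)]
  exact ⟨1, one_mem _, by simp⟩

/-- The conditions on a class under which its elements absorb the radicals. -/
def Gd (τ : F) (N : Fˣ) : Prop :=
  (N : F) ≠ 1 ∧ 1 - τ + N ≠ 0 ∧ 1 - τ * N + (N : F) ^ 3 ≠ 0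

theorem absorb_Q {τ : F} {N : Fˣ} (h : Gd τ N) : Absorb (xe τ N) (L F 0 (-1) 1) := by
  obtain ⟨h1, h2, h3⟩ := h
  have hN := N.ne_zero
  have e0 : (ev N (N ^ 2) 0 : F) = ((N : F) ^ 2)⁻¹ := by
    show ((N ^ (0 : ℤ) * (N ^ 2) ^ (-1 : ℤ) : Fˣ) : F) = _
    simp
  have e1 : (ev N (N ^ 2) 1 : F) = (N : F)⁻¹ := by
    show ((N ^ (-3 : ℤ) * (N ^ 2) ^ (1 : ℤ) : Fˣ) : F) = _
    simp [_root_.zpow_neg, zpow_ofNat]
    field_simp
  have e2 : (ev N (N ^ 2) 2 : F) = (N : F)⁻¹ := by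
    show ((N ^ (-1 : ℤ) * (N ^ 2) ^ (0 : ℤ) : Fˣ) : F) = _
    simp
  have e3 : (ev N (N ^ 2) 3 : F) = (N : F)⁻¹ := by
    show ((N ^ (1 : ℤ) * (N ^ 2) ^ (-1 : ℤ) : Fˣ) : F) = _
    simp
    field_simp
  have e4 : (ev N (N ^ 2) 4 : F) = 1 := by
    show ((N ^ (-2 : ℤ) * (N ^ 2) ^ (1 : ℤ) : Fˣ) : F) = _
    simp [_root_.zpow_neg, zpow_ofNat]
    try field_simp
  refine absorb_pair (σ := -1) (m := 1) (r₀ := 3) (r₁ := 4) (C := 1)
    ⟨le_rfl, by norm_num, by norm_num, by norm_num, by decide, by decide, by decide, by decide,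
      by decide, by decide, by decide, by decide⟩ τ N ?_ ?_
  · rw [e3, e4]
    intro e
    field_simp at e
    exact h2 (by linear_combination e)
  refine absorb_single (σ := -1) (r := 2) (by norm_num) (by decide) (by decide) (by decide)
    (by decide) (by decide) τ N ?_ ?_
  · rw [e2]
    exact fun e => h1 (inv_eq_one.1 e)
  refine absorb_pair (σ := -1) (m := 3) (r₀ := 0) (r₁ := 1) (C := 1)
    ⟨by norm_num, by norm_num, by norm_num, by norm_num, by decide, by decide, by decide, by decide,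
      by decide, by decide, by decide, by decide⟩ τ N ?_ (absorb_four _ (Or.inr rfl) _)
  rw [e0, e1]
  intro e
  field_simp at e
  exact h3 (by linear_combination e)

theorem absorb_P {τ : F} {N : Fˣ} (h : Gd τ N) : Absorb (xe τ N) (L F 0 1 1) := by
  obtain ⟨h1, h2, h3⟩ := h
  have hN := N.ne_zero
  have e7 : (ev N (N ^ 2) 7 : F) = 1 := by
    rw [ev7, Units.val_pow_eq_pow_val]
    field_simp
  have e8 : (ev N (N ^ 2) 8 : F) = N := by
    show ((N ^ (-1 : ℤ) * (N ^ 2) ^ (1 : ℤ) : Fˣ) : F) = _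
    simp [zpow_ofNat]
    field_simp
  have e9 : (ev N (N ^ 2) 9 : F) = N := by
    show ((N ^ (1 : ℤ) * (N ^ 2) ^ (0 : ℤ) : Fˣ) : F) = _
    simp
  have e10 : (ev N (N ^ 2) 10 : F) = N := by
    show ((N ^ (3 : ℤ) * (N ^ 2) ^ (-1 : ℤ) : Fˣ) : F) = _
    simp [zpow_ofNat]
    field_simp
  have e11 : (ev N (N ^ 2) 11 : F) = (N : F) ^ 2 := by
    show ((N ^ (0 : ℤ) * (N ^ 2) ^ (1 : ℤ) : Fˣ) : F) = _
    simp
  refine absorb_pair (σ := 1) (m := 1) (r₀ := 7) (r₁ := 8) (C := -1)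
    ⟨le_rfl, by norm_num, by norm_num, by norm_num, by decide, by decide, by decide, by decide,
      by decide, by decide, by decide, by decide⟩ τ N ?_ ?_
  · rw [e7, e8]
    intro e
    exact h2 (by linear_combination e)
  refine absorb_single (σ := 1) (r := 9) (by norm_num) (by decide) (by decide) (by decide)
    (by decide) (by decide) τ N ?_ ?_
  · rw [e9]
    exact h1
  refine absorb_pair (σ := 1) (m := 3) (r₀ := 10) (r₁ := 11) (C := -1)
    ⟨by norm_num, by norm_num, by norm_num, by norm_num, by decide, by decide, by decide, by decide,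
      by decide, by decide, by decide, by decide⟩ τ N ?_ (absorb_four _ (Or.inl rfl) _)
  rw [e10, e11]
  intro e
  exact h3 (by linear_combination e)

end G2Cov
end H55
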