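import Mathlib

/-!
Two by two matrices: similarity to companion matrices and products of two matrices with prescribed
traces and determinants.
-/

set_option autoImplicit false

namespace H55
namespace G2Cov

open Matrix

variable {F : Type*} [Field F]

/-- Companion matrix of `T² - τ T + N`. -/
def comp (τ N : F) : Matrix (Fin 2) (Fin 2) F := !![0, -N; 1, τ]

theorem det_comp (τ N : F) : (comp τ N).det = N := by simp [comp, det_fin_two]

theorem trace_comp (τ N : F) : (comp τ N).trace = τ := by simp [comp, trace_fin_two]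

/-- A matrix that is not scalar moves a vector off its line. -/
theorem exists_noneigen {M : Matrix (Fin 2) (Fin 2) F}
    (hM : ¬ (M 0 1 = 0 ∧ M 1 0 = 0 ∧ M 0 0 = M 1 1)) :
    ∃ e : Fin 2 → F, e 0 * (M *ᵥ e) 1 - e 1 * (M *ᵥ e) 0 ≠ 0 := by
  by_contra h
  push Not at h
  have h1 := h ![1, 0]
  have h2 := h ![0, 1]
  have h3 := h ![1, 1]
  simp [mulVec, dotProduct, Fin.sum_univ_two] at h1 h2 h3
  refine hM ⟨h2, h1, ?_⟩
  rw [h1, h2] at h3
  linear_combination -h3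

/-- The determinant `det(e, M e)`. -/
def wedge (M : Matrix (Fin 2) (Fin 2) F) (e : Fin 2 → F) : F :=
  e 0 * (M *ᵥ e) 1 - e 1 * (M *ᵥ e) 0

/-- The inverse of the moving matrix, with first column `e`. -/
def moverInv (M : Matrix (Fin 2) (Fin 2) F) (e : Fin 2 → F) (τ : F) : Matrix (Fin 2) (Fin 2) F :=
  !![e 0, ((M *ᵥ e) 0 - τ * e 0) / wedge M e; e 1, ((M *ᵥ e) 1 - τ * e 1) / wedge M e]

theorem det_moverInv {M : Matrix (Fin 2) (Fin 2) F} {e : Fin 2 → F} (he : wedge M e ≠ 0) (τ : F) :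
    (moverInv M e τ).det = 1 := by
  rw [moverInv, det_fin_two_of]
  field_simp
  rw [wedge]
  ring

/-- The element of `SL₂` conjugating `M` to a matrix with upper left entry `τ`. -/
def mover (M : Matrix (Fin 2) (Fin 2) F) (e : Fin 2 → F) (τ : F) (he : wedge M e ≠ 0) :
    SpecialLinearGroup (Fin 2) F :=
  ⟨!![((M *ᵥ e) 1 - τ * e 1) / wedge M e, -(((M *ᵥ e) 0 - τ * e 0) / wedge M e); -e 1, e 0], by
    have := det_moverInv he τ
    rw [moverInv, det_fin_two_of] at this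
    rw [det_fin_two_of]
    linear_combination this⟩

theorem mover_entries {M : Matrix (Fin 2) (Fin 2) F} {e : Fin 2 → F} (τ : F) (he : wedge M e ≠ 0) :
    (mover M e τ he : Matrix (Fin 2) (Fin 2) F) =
      !![((M *ᵥ e) 1 - τ * e 1) / wedge M e, -(((M *ᵥ e) 0 - τ * e 0) / wedge M e); -e 1, e 0] := rfl

theorem mover_inv {M : Matrix (Fin 2) (Fin 2) F} {e : Fin 2 → F} (τ : F) (he : wedge M e ≠ 0) :
    ((mover M e τ he)⁻¹ : SpecialLinearGroup (Fin 2) F).1 = moverInv M e τ := by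
  show (mover M e τ he : Matrix (Fin 2) (Fin 2) F).adjugate = _
  rw [mover_entries, adjugate_fin_two_of, moverInv]
  simp

theorem mover_spec {M : Matrix (Fin 2) (Fin 2) F} {e : Fin 2 → F} (τ : F) (he : wedge M e ≠ 0) :
    ((mover M e τ he : Matrix (Fin 2) (Fin 2) F) * M * moverInv M e τ) 0 0 = τ := by
  rw [mover_entries, moverInv]
  have hk : wedge M e = e 0 * (M 1 0 * e 0 + M 1 1 * e 1) - e 1 * (M 0 0 * e 0 + M 0 1 * e 1) := by
    simp [wedge, mulVec, dotProduct, Fin.sum_univ_two]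
  simp only [mul_apply, Fin.sum_univ_two, mulVec, dotProduct, of_apply, cons_val_zero,
    cons_val_one, cons_val', empty_val', cons_val_fin_one]
  generalize wedge M e = K at he hk ⊢
  field_simp
  rw [hk]
  ring

/-- Matrices with the same trace and determinant, off the scalars, are similar to the companion. -/
theorem exists_conj_comp {Z : Matrix (Fin 2) (Fin 2) F}
    (hZ : ¬ (Z 0 1 = 0 ∧ Z 1 0 = 0 ∧ Z 0 0 = Z 1 1)) :
    ∃ P : GL (Fin 2) F, Z = (P : Matrix (Fin 2) (Fin 2) F) * comp Z.trace Z.det *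
      ((P⁻¹ : GL (Fin 2) F) : Matrix (Fin 2) (Fin 2) F) := by
  obtain ⟨e, he⟩ := exists_noneigen hZ
  have hu : IsUnit (!![e 0, (Z *ᵥ e) 0; e 1, (Z *ᵥ e) 1]).det := by
    rw [det_fin_two_of, isUnit_iff_ne_zero]
    intro h
    exact he (by linear_combination h)
  refine ⟨GeneralLinearGroup.mk'' _ hu, ?_⟩
  rw [← Units.mul_left_inj (GeneralLinearGroup.mk'' _ hu), mul_assoc]
  simp only [Units.inv_mul, mul_one]
  show Z * !![e 0, (Z *ᵥ e) 0; e 1, (Z *ᵥ e) 1] = !![e 0, (Z *ᵥ e) 0; e 1, (Z *ᵥ e) 1] * _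
  ext i j
  fin_cases i <;> fin_cases j <;>
    simp [comp, mul_apply, Fin.sum_univ_two, mulVec, dotProduct, det_fin_two, trace_fin_two] <;> ring

theorem ne_scalar_of_disc {Z : Matrix (Fin 2) (Fin 2) F} (h : Z.trace ^ 2 - 4 * Z.det ≠ 0) :
    ¬ (Z 0 1 = 0 ∧ Z 1 0 = 0 ∧ Z 0 0 = Z 1 1) := by
  rintro ⟨h1, h2, h3⟩
  apply h
  rw [trace_fin_two, det_fin_two, h1, h2, h3]
  ring

/-- Trace and determinant of a pair with given product, from a point of a quadric. -/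
theorem exists_factor_of_point {s d τ₁ N₁ τ₂ N₂ a c : F} (hN₁ : N₁ ≠ 0) (hd : d = N₁ * N₂)
    (h : a ^ 2 + s * a * c + d * c ^ 2 - τ₁ * a - τ₂ * N₁ * c + N₁ = 0) :
    ∃ Z₁ Z₂ : Matrix (Fin 2) (Fin 2) F, Z₁ * Z₂ = comp s d ∧ Z₁.trace = τ₁ ∧ Z₁.det = N₁ ∧
      Z₂.trace = τ₂ ∧ Z₂.det = N₂ := by
  set Z₁ : Matrix (Fin 2) (Fin 2) F := !![a, d * c + a * s - τ₂ * N₁; c, τ₁ - a]
  have hdet : Z₁.det = N₁ := by rw [det_fin_two_of]; linear_combination -h
  refine ⟨Z₁, N₁⁻¹ • (Z₁.adjugate * comp s d), ?_, by simp [Z₁, trace_fin_two], hdet, ?_, ?_⟩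
  · rw [Matrix.mul_smul, ← mul_assoc, mul_adjugate, hdet, smul_mul_assoc, one_mul, smul_smul,
      inv_mul_cancel₀ hN₁, one_smul]
  · simp [Z₁, comp, trace_fin_two, adjugate_fin_two_of, mul_apply, Fin.sum_univ_two]
    field_simp
    ring
  · rw [det_smul, det_mul, det_adjugate, hdet, det_comp, hd]
    simp
    field_simp

/-- The scalar `μ` is a product of a pair as soon as the classes match. -/
theorem exists_factor_scalar {μ τ₁ N₁ τ₂ N₂ : F} (hN₁ : N₁ ≠ 0) (hτ : μ * τ₁ = N₁ * τ₂)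
    (hd : μ * μ = N₁ * N₂) :
    ∃ Z₁ Z₂ : Matrix (Fin 2) (Fin 2) F, Z₁ * Z₂ = μ • 1 ∧ Z₁.trace = τ₁ ∧ Z₁.det = N₁ ∧
      Z₂.trace = τ₂ ∧ Z₂.det = N₂ := by
  refine ⟨comp τ₁ N₁, (μ / N₁) • (comp τ₁ N₁).adjugate, ?_, trace_comp _ _, det_comp _ _, ?_, ?_⟩
  · rw [Matrix.mul_smul, mul_adjugate, det_comp, smul_smul, div_mul_cancel₀ _ hN₁]
  · simp [comp, trace_fin_two, adjugate_fin_two_of]
    field_simp
    linear_combination hτ
  · rw [det_smul, det_adjugate, det_comp]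
    simp
    field_simp
    linear_combination hd

/-- `M` is a product `Z₁ Z₂` of matrices with the given traces and determinants. -/
def IsProd (M : Matrix (Fin 2) (Fin 2) F) (τ₁ N₁ τ₂ N₂ : F) : Prop :=
  ∃ Z₁ Z₂ : Matrix (Fin 2) (Fin 2) F, Z₁ * Z₂ = M ∧ Z₁.trace = τ₁ ∧ Z₁.det = N₁ ∧
    Z₂.trace = τ₂ ∧ Z₂.det = N₂

theorem isProd_of_point {M : Matrix (Fin 2) (Fin 2) F}
    (hM : ¬ (M 0 1 = 0 ∧ M 1 0 = 0 ∧ M 0 0 = M 1 1)) {τ₁ N₁ τ₂ N₂ a c : F} (hN₁ : N₁ ≠ 0)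
    (hd : M.det = N₁ * N₂)
    (h : a ^ 2 + M.trace * a * c + M.det * c ^ 2 - τ₁ * a - τ₂ * N₁ * c + N₁ = 0) :
    IsProd M τ₁ N₁ τ₂ N₂ := by
  obtain ⟨P, hP⟩ := exists_conj_comp hM
  obtain ⟨Z₁, Z₂, h1, h2, h3, h4, h5⟩ := exists_factor_of_point hN₁ hd h
  refine ⟨P.1 * Z₁ * (P⁻¹).1, P.1 * Z₂ * (P⁻¹).1, ?_, ?_, ?_, ?_, ?_⟩
  · conv_rhs => rw [hP, ← h1]
    simp only [mul_assoc]
    rw [← mul_assoc (P⁻¹).1 P.1, Units.inv_mul, one_mul]
  · rw [trace_mul_cycle, Units.inv_mul, one_mul, h2]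
  · rw [det_units_conj, h3]
  · rw [trace_mul_cycle, Units.inv_mul, one_mul, h4]
  · rw [det_units_conj, h5]

/-- Split first class: any element of matching determinant is a product. -/
theorem isProd_split {M : Matrix (Fin 2) (Fin 2) F} {τ₁ N₁ τ₂ N₂ l : F} (hN₁ : N₁ ≠ 0)
    (hd : M.det = N₁ * N₂) (hl : l ^ 2 - τ₁ * l + N₁ = 0)
    (hM : ¬ (M 0 1 = 0 ∧ M 1 0 = 0 ∧ M 0 0 = M 1 1)) : IsProd M τ₁ N₁ τ₂ N₂ :=
  isProd_of_point hM hN₁ hd (a := l) (c := 0) (by linear_combination hl)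

/-- Odd order field: determinant one against the classes `(τ, -1)` and `(-τ, -1)`. -/
theorem isProd_odd [Fintype F] (h2 : (2 : F) ≠ 0) {M : Matrix (Fin 2) (Fin 2) F} {τ : F}
    (hτ : τ ≠ 0) (hd : M.det = 1) : IsProd M τ (-1) τ (-1) ∨ IsProd M τ (-1) (-τ) (-1) := by
  have hN : (-1 : F) ≠ 0 := neg_ne_zero.2 one_ne_zero
  have hd' : M.det = (-1 : F) * -1 := by rw [hd]; ring
  by_cases hM : M 0 1 = 0 ∧ M 1 0 = 0 ∧ M 0 0 = M 1 1
  · obtain ⟨h1, h2', h3⟩ := hM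
    have hμ : M 0 0 * M 0 0 = 1 := by rw [det_fin_two, h1, h2', ← h3] at hd; linear_combination hd
    have e : M = M 0 0 • 1 := by ext i j; fin_cases i <;> fin_cases j <;> simp [h1, h2', ← h3]
    rcases mul_self_eq_one_iff.1 hμ with h | h
    · right; rw [e]; exact exists_factor_scalar hN (by rw [h]; ring) (by rw [hμ]; ring)
    · left; rw [e]; exact exists_factor_scalar hN (by rw [h]) (by rw [hμ]; ring)
  set s := M.trace
  by_cases hs : ∃ r : F, r ^ 2 + s * r + 1 = 0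
  · obtain ⟨r, hr⟩ := hs
    by_cases hr1 : r = 1
    · right
      refine isProd_of_point hM hN hd' (a := r * (-(2 * τ))⁻¹) (c := (-(2 * τ))⁻¹) ?_
      have : (-(2 * τ))⁻¹ * (-(2 * τ)) = 1 := inv_mul_cancel₀ (neg_ne_zero.2 (mul_ne_zero h2 hτ))
      subst hr1
      rw [hd]
      linear_combination ((-(2 * τ))⁻¹) ^ 2 * hr + this
    · left
      have hne : -(τ * (r - 1)) ≠ 0 := neg_ne_zero.2 (mul_ne_zero hτ (sub_ne_zero.2 hr1))
      refine isProd_of_point hM hN hd' (a := r * (-(τ * (r - 1)))⁻¹) (c := (-(τ * (r - 1)))⁻¹) ?_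
      have : (-(τ * (r - 1)))⁻¹ * (-(τ * (r - 1))) = 1 := inv_mul_cancel₀ hne
      rw [hd]
      linear_combination ((-(τ * (r - 1)))⁻¹) ^ 2 * hr + this
  · left
    have hchar : ringChar F ≠ 2 := fun h => h2 (by
      haveI := ringChar.of_eq h
      exact CharTwo.two_eq_zero)
    set A := s * s - 4 with hA
    have hA0 : A ≠ 0 := fun e => hs ⟨-s / 2, by field_simp; linear_combination -e⟩
    obtain ⟨y, c, hyc⟩ := FiniteField.exists_root_sum_quadratic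
      (f := (Polynomial.X : Polynomial F) ^ 2)
      (g := -(Polynomial.C A * Polynomial.X ^ 2 + Polynomial.C (-(2 * s * τ) - 4 * τ) * Polynomial.X +
        Polynomial.C (τ * τ + 4)))
      (Polynomial.degree_X_pow 2) (by rw [Polynomial.degree_neg]; exact Polynomial.degree_quadratic hA0)
      (FiniteField.odd_card_of_char_ne_two hchar)
    simp only [Polynomial.eval_pow, Polynomial.eval_X, Polynomial.eval_neg, Polynomial.eval_add,
      Polynomial.eval_mul, Polynomial.eval_C] at hyc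
    refine isProd_of_point hM hN hd' (a := (τ - s * c + y) / 2) (c := c) ?_
    rw [hd]
    field_simp
    linear_combination hyc

/-- Characteristic two: a product whenever the trace of `M` is not zero. -/
theorem isProd_two [Fintype F] [CharP F 2] {M : Matrix (Fin 2) (Fin 2) F} {τ₁ N₁ τ₂ N₂ : F}
    (hN₁ : N₁ ≠ 0) (hd : M.det = N₁ * N₂) (hs : M.trace ≠ 0) : IsProd M τ₁ N₁ τ₂ N₂ := by
  set s := M.trace
  set d := M.det
  have hM : ¬ (M 0 1 = 0 ∧ M 1 0 = 0 ∧ M 0 0 = M 1 1) := by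
    rintro ⟨-, -, h⟩
    exact hs (by rw [show s = M 0 0 + M 1 1 from trace_fin_two M, h, CharTwo.add_self_eq_zero])
  set c₀ := τ₁ / s
  set a₀ := τ₂ * N₁ / s
  set k := a₀ ^ 2 + s * a₀ * c₀ + d * c₀ ^ 2 + τ₁ * a₀ + τ₂ * N₁ * c₀ + N₁
  obtain ⟨r, hr⟩ := FiniteField.isSquare_of_char_two (ringChar.eq F 2) k
  refine isProd_of_point hM hN₁ hd (a := a₀ + r) (c := c₀) ?_
  simp only [CharTwo.sub_eq_add]
  have h1 : s * c₀ = τ₁ := mul_div_cancel₀ _ hs
  have e2 : (2 : F) = 0 := CharTwo.two_eq_zero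
  show (a₀ + r) ^ 2 + s * (a₀ + r) * c₀ + d * c₀ ^ 2 + τ₁ * (a₀ + r) + τ₂ * N₁ * c₀ + N₁ = 0
  linear_combination r * h1 + hr + (a₀ * r + τ₁ * r + r * r) * e2

end G2Cov
end H55
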