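import Cfsg.Agent.H52.RankOne
import Cfsg.Agent.H52.Parabolic
import Cfsg.Agent.H52.DataG2
import Cfsg.Agent.H55.G2Cov.Mat

/-!
`G₂`: the torus in coordinates, the two fundamental homomorphisms from `SL₂`, and the homomorphism
from `GL₂` onto the Levi subgroup of the long fundamental root.
Roots: 7 = (1,0), 6 = (0,1), 8 = (1,1), 9 = (2,1), 10 = (3,1), 11 = (3,2); `-r = 11 - r`.
-/

set_option autoImplicit false

namespace H55
namespace G2Cov

open Cfsg.Lie Matrix

variable {F : Type*} [Field F]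

/-- Root elements. -/
noncomputable abbrev X (r : ℕ) (t : F) : GL chevG2.Idx F := H52.rt chevG2 r t

/-- The torus element `h_a(A) h_b(B)`. -/
noncomputable def tor (A B : Fˣ) : GL chevG2.Idx F := H52.torus chevG2 ![A, B]

theorem tor_mul (A B A' B' : Fˣ) : tor A B * tor A' B' = tor (A * A') (B * B') := by
  refine (map_mul (H52.torus chevG2) _ _).symm.trans ?_
  exact congrArg _ (funext fun i => by fin_cases i <;> rfl)

theorem tor_one : tor (1 : Fˣ) 1 = 1 := by
  have e : (![1, 1] : Fin chevG2.rank → Fˣ) = 1 := funext fun i => by fin_cases i <;> rfl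
  exact (congrArg _ e).trans (map_one (H52.torus chevG2))

theorem tor_inv (A B : Fˣ) : (tor A B)⁻¹ = tor A⁻¹ B⁻¹ :=
  inv_eq_of_mul_eq_one_right (by rw [tor_mul, mul_inv_cancel, mul_inv_cancel, tor_one])

/-- The value of the torus element on the root `r`. -/
def ev (A B : Fˣ) (r : ℕ) : Fˣ := A ^ chevG2.cartan 0 r * B ^ chevG2.cartan 1 r

theorem tor_X (A B : Fˣ) {r : ℕ} (hr : r < 12) (t : F) :
    tor A B * X r t * (tor A B)⁻¹ = X r ((ev A B r : F) * t) := by
  have h := H52.checkedG2.torus_conj_rt (F := F) ![A, B] (r := r) hr t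
  refine h.trans ?_
  congr 2
  show _ = ((ev A B r : Fˣ) : F)
  congr 1
  exact Fin.prod_univ_two _

theorem ev7 (A B : Fˣ) : (ev A B 7 : F) = (A : F) ^ 2 / B := by
  show ((A ^ (2 : ℤ) * B ^ (-1 : ℤ) : Fˣ) : F) = _
  simp [div_eq_mul_inv, zpow_ofNat]

theorem ev6 (A B : Fˣ) : (ev A B 6 : F) = (B : F) ^ 2 / (A : F) ^ 3 := by
  show ((A ^ (-3 : ℤ) * B ^ (2 : ℤ) : Fˣ) : F) = _
  simp [div_eq_mul_inv, zpow_ofNat, _root_.zpow_neg]
  ring

theorem ev_neg (A B : Fˣ) {r : ℕ} (hr : r < 12) : ev A B (11 - r) = (ev A B r)⁻¹ := by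
  have h0 := H52.checkedG2.cartan_neg (j := 0) (r := r) (by decide) hr
  have h1 := H52.checkedG2.cartan_neg (j := 1) (r := r) (by decide) hr
  have e := H52.checkedG2.neg_eq (r := r) hr
  rw [show chevG2.nroots - 1 - r = 11 - r from rfl] at e
  rw [e] at h0 h1
  rw [ev, ev, h0, h1, _root_.zpow_neg, _root_.zpow_neg, mul_inv]

theorem ev4 (A B : Fˣ) : (ev A B 4 : F) = ((ev A B 7 : Fˣ) : F)⁻¹ := by
  rw [show (4 : ℕ) = 11 - 7 from rfl, ev_neg A B (by norm_num), Units.val_inv_eq_inv_val]

theorem ev5 (A B : Fˣ) : (ev A B 5 : F) = ((ev A B 6 : Fˣ) : F)⁻¹ := by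
  rw [show (5 : ℕ) = 11 - 6 from rfl, ev_neg A B (by norm_num), Units.val_inv_eq_inv_val]

/-- The index of a fundamental root. -/
def sr : Fin 2 → ℕ := ![7, 6]

/-- The index of the negative of a fundamental root. -/
def sn : Fin 2 → ℕ := ![4, 5]

theorem sr_lt (i : Fin 2) : sr i < 12 := by fin_cases i <;> decide

theorem sn_lt (i : Fin 2) : sn i < 12 := by fin_cases i <;> decide

theorem exists_phi (i : Fin 2) :
    ∃ φ : SpecialLinearGroup (Fin 2) F →* GL chevG2.Idx F,
      (∀ g, φ g ∈ Subgroup.closure (Set.range (X (F := F) (sr i)) ∪ Set.range (X (sn i)))) ∧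
      ∀ (g : SpecialLinearGroup (Fin 2) F) (t : F),
        ((g : Matrix (Fin 2) (Fin 2) F) = !![1, t; 0, 1] → φ g = X (sr i) t) ∧
        ((g : Matrix (Fin 2) (Fin 2) F) = !![1, 0; t, 1] → φ g = X (sn i) t) := by
  have h := (H52.checkedG2.rankOneRel (F := F) (r := sr i) (sr_lt i)).exists_hom
  fin_cases i <;> exact h

/-- The homomorphism from `SL₂` of a fundamental root. -/
noncomputable def phi (i : Fin 2) : SpecialLinearGroup (Fin 2) F →* GL chevG2.Idx F :=
  Classical.choose (exists_phi i)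

/-- Upper unitriangular element. -/
def up (t : F) : SpecialLinearGroup (Fin 2) F := ⟨!![1, t; 0, 1], by simp [det_fin_two]⟩

/-- Lower unitriangular element. -/
def lo (t : F) : SpecialLinearGroup (Fin 2) F := ⟨!![1, 0; t, 1], by simp [det_fin_two]⟩

/-- Diagonal element. -/
def di (t : Fˣ) : SpecialLinearGroup (Fin 2) F :=
  ⟨!![(t : F), 0; 0, ((t⁻¹ : Fˣ) : F)], by simp [det_fin_two]⟩

theorem sl_val_mul (a b : SpecialLinearGroup (Fin 2) F) : (a * b).1 = a.1 * b.1 := rfl

theorem phi_up (i : Fin 2) (t : F) : phi i (up t) = X (sr i) t :=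
  ((Classical.choose_spec (exists_phi i)).2 _ t).1 rfl

theorem phi_lo (i : Fin 2) (t : F) : phi i (lo t) = X (sn i) t :=
  ((Classical.choose_spec (exists_phi i)).2 _ t).2 rfl

theorem phi_mem (i : Fin 2) (g : SpecialLinearGroup (Fin 2) F) :
    phi i g ∈ Subgroup.closure (Set.range (X (F := F) (sr i)) ∪ Set.range (X (sn i))) :=
  (Classical.choose_spec (exists_phi i)).1 g

theorem di_eq (t : Fˣ) : di t = up (t : F) * lo (-((t⁻¹ : Fˣ) : F)) * up (t : F) *
    (up (-1) * lo 1 * up (-1)) := by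
  apply Subtype.ext
  rw [sl_val_mul, sl_val_mul, sl_val_mul, sl_val_mul, sl_val_mul]
  simp only [di, up, lo]
  ext i j
  fin_cases i <;> fin_cases j <;> simp [mul_apply, Fin.sum_univ_two]

theorem phi_di (i : Fin 2) (t : Fˣ) :
    phi i (di t) = H52.torus chevG2 (Pi.mulSingle i t) := by
  have h : H52.hElt chevG2 (chevG2.simple i.val) (t : F) =
      H52.torus chevG2 (Pi.mulSingle i t) := H52.checkedG2.hElt_simple_eq_torus (F := F) i t
  rw [← h, di_eq]
  simp only [map_mul, phi_up, phi_lo]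
  rw [H52.Checked.hElt_eq, H52.Checked.nElt_eq, H52.Checked.nElt_eq]
  simp only [inv_neg, inv_one, neg_neg, Units.val_inv_eq_inv_val]
  fin_cases i <;> rfl

theorem phi_di_zero (t : Fˣ) : phi 0 (di t) = tor t 1 := by
  rw [phi_di, tor]
  exact congrArg _ (funext fun i => by fin_cases i <;> rfl)

theorem phi_di_one (t : Fˣ) : phi 1 (di t) = tor 1 t := by
  rw [phi_di, tor]
  exact congrArg _ (funext fun i => by fin_cases i <;> rfl)

/-- Every element of `SL₂` is a product of unitriangular ones. -/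
theorem sl2_ext {G : Type*} [Group G] {f g : SpecialLinearGroup (Fin 2) F →* G}
    (hu : ∀ t, f (up t) = g (up t)) (hl : ∀ t, f (lo t) = g (lo t)) : f = g := by
  ext s
  have key : ∀ v : SpecialLinearGroup (Fin 2) F, v.1 1 0 ≠ 0 → f v = g v := by
    intro v hv
    have hd := v.2
    rw [det_fin_two] at hd
    have e : v = up ((v.1 0 0 - 1) / v.1 1 0) * lo (v.1 1 0) * up ((v.1 1 1 - 1) / v.1 1 0) := by
      apply Subtype.ext
      show v.1 = !![1, _; 0, 1] * !![1, 0; _, 1] * !![1, _; 0, 1]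
      ext i j
      fin_cases i <;> fin_cases j <;> simp <;> field_simp
      · ring
      · linear_combination -hd
      · ring
    rw [e, map_mul, map_mul, map_mul, map_mul, hu, hl, hu]
  by_cases hc : s.1 1 0 = 0
  · have h2 : (s * lo 1).1 1 0 ≠ 0 := by
      show (s.1 * !![(1 : F), 0; 1, 1]) 1 0 ≠ 0
      simp [mul_apply, Fin.sum_univ_two, hc]
      intro e
      have hd := s.2
      rw [det_fin_two, e, hc] at hd
      simp at hd
    have := key _ h2
    rw [map_mul, map_mul, hl] at this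
    exact mul_right_cancel this
  · exact key s hc

/-- Conjugation by `diag(λ, 1)`. -/
def twist (lam : Fˣ) : SpecialLinearGroup (Fin 2) F →* SpecialLinearGroup (Fin 2) F where
  toFun s := ⟨!![s.1 0 0, (lam : F) * s.1 0 1; ((lam⁻¹ : Fˣ) : F) * s.1 1 0, s.1 1 1], by
    have := s.2
    rw [det_fin_two] at this
    rw [det_fin_two_of]
    simp only [Units.val_inv_eq_inv_val]
    field_simp
    linear_combination this⟩
  map_one' := by
    apply Subtype.ext
    ext i j
    fin_cases i <;> fin_cases j <;> simp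
  map_mul' s t := by
    apply Subtype.ext
    show _ = !![_, _; _, _] * !![_, _; _, _]
    ext i j
    fin_cases i <;> fin_cases j <;>
      simp [mul_apply, Fin.sum_univ_two, Units.val_inv_eq_inv_val] <;> field_simp <;> ring

theorem twist_val (lam : Fˣ) (s : SpecialLinearGroup (Fin 2) F) :
    (twist lam s).1 =
      !![s.1 0 0, (lam : F) * s.1 0 1; ((lam⁻¹ : Fˣ) : F) * s.1 1 0, s.1 1 1] := rfl

theorem twist_up (lam : Fˣ) (t : F) : twist lam (up t) = up ((lam : F) * t) := by
  apply Subtype.ext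
  rw [twist_val]
  ext i j
  fin_cases i <;> fin_cases j <;> simp [up]

theorem twist_lo (lam : Fˣ) (t : F) : twist lam (lo t) = lo (((lam⁻¹ : Fˣ) : F) * t) := by
  apply Subtype.ext
  rw [twist_val]
  ext i j
  fin_cases i <;> fin_cases j <;> simp [lo]

theorem tor_phi (A B : Fˣ) (i : Fin 2) (s : SpecialLinearGroup (Fin 2) F) :
    tor A B * phi i s * (tor A B)⁻¹ = phi i (twist (ev A B (sr i)) s) := by
  have h : ((MulAut.conj (tor A B)).toMonoidHom.comp (phi i)) =
      (phi i).comp (twist (ev A B (sr i))) := by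
    apply sl2_ext <;> intro t <;>
      simp only [MonoidHom.comp_apply, MulEquiv.coe_toMonoidHom, MulAut.conj_apply, twist_up,
        twist_lo, phi_up, phi_lo]
    · exact tor_X A B (sr_lt i) t
    · rw [tor_X A B (sn_lt i) t]
      congr 2
      fin_cases i
      · exact congrArg Units.val (ev_neg A B (r := 7) (by norm_num))
      · exact congrArg Units.val (ev_neg A B (r := 6) (by norm_num))
  exact DFunLike.congr_fun h s

theorem tor_phi' (A B : Fˣ) (i : Fin 2) (s : SpecialLinearGroup (Fin 2) F) :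
    tor A B * phi i s = phi i (twist (ev A B (sr i)) s) * tor A B := by
  rw [← tor_phi A B i s, inv_mul_cancel_right]

/-- The cocharacter acting as `diag(d, 1)` on the long root `SL₂`. -/
noncomputable def dd (d : Fˣ) : GL chevG2.Idx F := tor d (d ^ 2)

theorem dd_mul (a b : Fˣ) : dd a * dd b = dd (a * b) := by
  rw [dd, dd, dd, tor_mul, mul_pow]

theorem ev_dd (d : Fˣ) : ev d (d ^ 2) 6 = d := by
  apply Units.ext
  rw [ev6, Units.val_pow_eq_pow_val]
  field_simp

theorem dd_phi (d : Fˣ) (s : SpecialLinearGroup (Fin 2) F) :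
    dd d * phi 1 s = phi 1 (twist d s) * dd d := by
  have := tor_phi' d (d ^ 2) 1 s
  rwa [show sr 1 = 6 from rfl, ev_dd] at this

/-- The special part `diag(det⁻¹, 1) M`. -/
noncomputable def spart (M : GL (Fin 2) F) : SpecialLinearGroup (Fin 2) F :=
  ⟨!![M.1 0 0 / M.1.det, M.1 0 1 / M.1.det; M.1 1 0, M.1 1 1], by
    have h : M.1.det ≠ 0 := Matrix.GeneralLinearGroup.det_ne_zero M
    rw [det_fin_two_of]
    field_simp
    rw [det_fin_two]⟩

/-- The homomorphism from `GL₂` onto the Levi subgroup of the long fundamental root. -/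
noncomputable def psi : GL (Fin 2) F →* GL chevG2.Idx F :=
  MonoidHom.mk' (fun M => dd (GeneralLinearGroup.det M) * phi 1 (spart M)) fun M N => by
    show dd (GeneralLinearGroup.det (M * N)) * _ = dd _ * _ * (dd _ * _)
    set d := GeneralLinearGroup.det N
    have e : spart M = twist d (twist d⁻¹ (spart M)) := by
      apply Subtype.ext
      ext i j
      fin_cases i <;> fin_cases j <;> simp [twist_val]
    conv_rhs => rw [e]
    rw [mul_assoc (dd _) (phi 1 _), ← mul_assoc (phi 1 _) (dd d), ← dd_phi, mul_assoc (dd d),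
      ← map_mul, ← mul_assoc, dd_mul, ← map_mul]
    congr 2
    apply Subtype.ext
    have hM : M.1.det ≠ 0 := Matrix.GeneralLinearGroup.det_ne_zero M
    have hN : N.1.det ≠ 0 := Matrix.GeneralLinearGroup.det_ne_zero N
    show !![_, _; _, _] = (twist d⁻¹ (spart M)).1 * (spart N).1
    rw [twist_val]
    ext i j
    fin_cases i <;> fin_cases j <;>
      simp [spart, twist_val, d, mul_apply, Fin.sum_univ_two, det_mul, Units.val_inv_eq_inv_val,
        GeneralLinearGroup.val_det_apply] <;> field_simp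

theorem psi_apply (M : GL (Fin 2) F) :
    psi M = dd (GeneralLinearGroup.det M) * phi 1 (spart M) := rfl

/-- `diag(a, b)` in `GL₂`. -/
def diagGL (a b : Fˣ) : GL (Fin 2) F :=
  ⟨!![(a : F), 0; 0, (b : F)], !![((a⁻¹ : Fˣ) : F), 0; 0, ((b⁻¹ : Fˣ) : F)],
    by ext i j; fin_cases i <;> fin_cases j <;> simp [mul_apply, Fin.sum_univ_two],
    by ext i j; fin_cases i <;> fin_cases j <;> simp [mul_apply, Fin.sum_univ_two]⟩

theorem psi_sl (s : SpecialLinearGroup (Fin 2) F) :
    psi (SpecialLinearGroup.toGL s) = phi 1 s := by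
  have hd : GeneralLinearGroup.det (SpecialLinearGroup.toGL s) = 1 := Units.ext (by simp)
  rw [psi_apply, hd, show dd (1 : Fˣ) = 1 by rw [dd, one_pow, tor_one], one_mul]
  congr 1
  apply Subtype.ext
  show !![_, _; _, _] = _
  ext i j
  fin_cases i <;> fin_cases j <;> simp

theorem psi_diag (a b : Fˣ) : psi (diagGL a b) = tor (a * b) (a ^ 2 * b) := by
  have hd : GeneralLinearGroup.det (diagGL a b) = a * b :=
    Units.ext (by simp [diagGL, det_fin_two])
  have hs : spart (diagGL a b) = di b⁻¹ := by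
    apply Subtype.ext
    show !![_, _; _, _] = !![_, _; _, _]
    ext i j
    fin_cases i <;> fin_cases j <;> simp [diagGL, det_fin_two]
    field_simp
  rw [psi_apply, hd, hs, phi_di_one, dd, tor_mul, mul_one]
  congr 1
  rw [mul_pow, pow_two b, mul_assoc, mul_inv_cancel_right]

end G2Cov
end H55
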