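import Cfsg.Agent.H55.G2Cov.Absorb

/-!
`G₂`: products of two conjugates of an element of the Levi subgroup.
-/

set_option autoImplicit false

namespace H55
namespace G2Cov

open Cfsg.Lie Matrix

variable {F : Type*} [Field F]

theorem Cj.trans {a b c : GL chevG2.Idx F} (h : Cj a b) (h' : Cj b c) : Cj a c := by
  obtain ⟨e, he, rfl⟩ := h'
  exact h.conj he

theorem Cj.refl (a : GL chevG2.Idx F) : Cj a a := ⟨1, one_mem _, by simp⟩

theorem exists_psi_conj {Z : GL (Fin 2) F} {τ : F} {N : Fˣ} (ht : Z.1.trace = τ)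
    (hd : Z.1.det = N) (hns : ¬ (Z.1 0 1 = 0 ∧ Z.1 1 0 = 0 ∧ Z.1 0 0 = Z.1 1 1)) :
    ∃ P : GL (Fin 2) F, psi Z = psi P * xe τ N * (psi P)⁻¹ := by
  obtain ⟨P, hP⟩ := exists_conj_comp hns
  rw [ht, hd] at hP
  exact ⟨P, by rw [xe, ← map_inv, ← map_mul, ← map_mul]; exact congrArg psi (Units.ext hP)⟩

/-! ### The second class -/

theorem comm_nine (s : SpecialLinearGroup (Fin 2) F) :
    H52.nElt chevG2 9 (1 : F) * phi 1 s * (H52.nElt chevG2 9 (1 : F))⁻¹ = phi 1 s := by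
  have key : ∀ t : F, H52.nElt chevG2 9 (1 : F) * X 6 t * (H52.nElt chevG2 9 (1 : F))⁻¹ = X 6 t ∧
      H52.nElt chevG2 9 (1 : F) * X 5 t * (H52.nElt chevG2 9 (1 : F))⁻¹ = X 5 t := by
    intro t
    have a1 : ∀ u : F, X 9 u * X 6 t * (X 9 u)⁻¹ = X 6 t := fun u =>
      conj_fix (by norm_num) (by norm_num) (by decide) (by decide) (by decide) t u
    have a2 : ∀ u : F, X 2 u * X 6 t * (X 2 u)⁻¹ = X 6 t := fun u =>
      conj_fix (by norm_num) (by norm_num) (by decide) (by decide) (by decide) t u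
    have b1 : ∀ u : F, X 9 u * X 5 t * (X 9 u)⁻¹ = X 5 t := fun u =>
      conj_fix (by norm_num) (by norm_num) (by decide) (by decide) (by decide) t u
    have b2 : ∀ u : F, X 2 u * X 5 t * (X 2 u)⁻¹ = X 5 t := fun u =>
      conj_fix (by norm_num) (by norm_num) (by decide) (by decide) (by decide) t u
    rw [H52.Checked.nElt_eq, show chevG2.neg 9 = 2 by decide]
    constructor
    · calc _ = X 9 1 * (X 2 (-(1 : F)⁻¹) * (X 9 1 * X 6 t * (X 9 1)⁻¹) * (X 2 (-(1 : F)⁻¹))⁻¹) *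
            (X 9 1)⁻¹ := by group
        _ = _ := by rw [a1, a2, a1]
    · calc _ = X 9 1 * (X 2 (-(1 : F)⁻¹) * (X 9 1 * X 5 t * (X 9 1)⁻¹) * (X 2 (-(1 : F)⁻¹))⁻¹) *
            (X 9 1)⁻¹ := by group
        _ = _ := by rw [b1, b2, b1]
  have h : ((MulAut.conj (H52.nElt chevG2 9 (1 : F))).toMonoidHom.comp (phi 1)) = phi 1 := by
    apply sl2_ext <;> intro t <;>
      simp only [MonoidHom.comp_apply, MulEquiv.coe_toMonoidHom, MulAut.conj_apply, phi_up, phi_lo]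
    · exact (key t).1
    · exact (key t).2
  exact DFunLike.congr_fun h s

theorem nine_dd (d : Fˣ) :
    H52.nElt chevG2 9 (1 : F) * dd d * (H52.nElt chevG2 9 (1 : F))⁻¹ = tor d⁻¹ d⁻¹ := by
  have e9 : (ev d (d ^ 2) 9 : F) = d := by
    show ((d ^ (1 : ℤ) * (d ^ 2) ^ (0 : ℤ) : Fˣ) : F) = _
    simp
  have e2 : (ev d (d ^ 2) 2 : F) = (d : F)⁻¹ := by
    show ((d ^ (-1 : ℤ) * (d ^ 2) ^ (0 : ℤ) : Fˣ) : F) = _
    simp
  set n := H52.nElt chevG2 9 (1 : F) with hn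
  have h1 : dd d * n * (dd d)⁻¹ = H52.nElt chevG2 9 (d : F) := by
    rw [hn, H52.Checked.nElt_eq, H52.Checked.nElt_eq, show chevG2.neg 9 = 2 by decide]
    have t9 := tor_X d (d ^ 2) (r := 9) (by norm_num) (1 : F)
    have t2 := tor_X d (d ^ 2) (r := 2) (by norm_num) (-(1 : F)⁻¹)
    rw [e9, mul_one] at t9
    rw [e2, show ((d : F)⁻¹ * -(1 : F)⁻¹) = -(d : F)⁻¹ by simp] at t2
    show dd d * (X 9 1 * X 2 (-(1 : F)⁻¹) * X 9 1) * (dd d)⁻¹ =
      X 9 (d : F) * X 2 (-(d : F)⁻¹) * X 9 (d : F)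
    rw [← t9, ← t2, dd]
    group
  have h2 : H52.hElt chevG2 9 (d : F) = H52.nElt chevG2 9 (d : F) * n⁻¹ := by
    rw [H52.Checked.hElt_eq, hn, hC.nElt_inv (show 9 < chevG2.nroots by decide)]
  have h3 : H52.hElt chevG2 9 (d : F) = tor (d ^ (2 : ℤ)) (d ^ (3 : ℤ)) := by
    rw [hC.hElt_eq_torus (show 9 < chevG2.nroots by decide)]
    exact congrArg _ (funext fun i => by fin_cases i <;> rfl)
  calc n * dd d * n⁻¹ = (dd d * n * (dd d)⁻¹ * n⁻¹)⁻¹ * dd d := by group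
    _ = tor (d ^ (2 : ℤ))⁻¹ (d ^ (3 : ℤ))⁻¹ * tor d (d ^ 2) := by
      rw [h1, ← h2, h3, tor_inv]; rfl
    _ = tor d⁻¹ d⁻¹ := by
      rw [tor_mul]
      congr 1 <;> group

theorem nine_psi (Y : GL (Fin 2) F) :
    H52.nElt chevG2 9 (1 : F) * psi Y * (H52.nElt chevG2 9 (1 : F))⁻¹ =
      psi (diagGL (GeneralLinearGroup.det Y)⁻¹ (GeneralLinearGroup.det Y)⁻¹ * Y) := by
  set d := GeneralLinearGroup.det Y with hd
  set n := H52.nElt chevG2 9 (1 : F)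
  have hdet : GeneralLinearGroup.det (diagGL d⁻¹ d⁻¹ * Y) = d⁻¹ := by
    rw [map_mul, ← hd, show GeneralLinearGroup.det (diagGL d⁻¹ d⁻¹) = d⁻¹ * d⁻¹ from
      Units.ext (by simp [diagGL, det_fin_two]), inv_mul_cancel_right]
  have hs : spart (diagGL d⁻¹ d⁻¹ * Y) = di d * spart Y := by
    apply Subtype.ext
    have hdv : ((diagGL d⁻¹ d⁻¹ * Y : GL (Fin 2) F) : Matrix (Fin 2) (Fin 2) F).det =
        ((d⁻¹ : Fˣ) : F) := congrArg Units.val hdet
    show !![_, _; _, _] = !![_, _; _, _] * !![_, _; _, _]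
    rw [hdv]
    have hY : Y.1.det = (d : F) := rfl
    rw [hY]
    ext i j
    fin_cases i <;> fin_cases j <;>
      simp [diagGL, mul_apply, Fin.sum_univ_two] <;> field_simp
  calc n * psi Y * n⁻¹ = (n * dd d * n⁻¹) * (n * phi 1 (spart Y) * n⁻¹) := by
        rw [psi_apply, ← hd]; group
    _ = _ := by
      rw [nine_dd, comm_nine, psi_apply, hdet, hs, map_mul, phi_di_one, dd, ← mul_assoc, tor_mul,
        mul_one]
      congr 2
      group

theorem nine_mem_group : H52.nElt chevG2 9 (1 : F) ∈ chevG2.group F := by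
  rw [H52.Checked.nElt_eq]
  exact mul_mem (mul_mem (hC.rt_mem_group _ _) (hC.rt_mem_group _ _)) (hC.rt_mem_group _ _)

theorem cj_second (τ : F) (N : Fˣ) : Cj (xe τ N) (xe (τ / N) N⁻¹) := by
  have hd : GeneralLinearGroup.det (compGL τ N) = N := Units.ext (det_comp τ (N : F))
  set Y := diagGL N⁻¹ N⁻¹ * compGL τ N with hY
  have h1 : Cj (xe τ N) (psi Y) :=
    ⟨_, nine_mem_group, by rw [xe, nine_psi, hd]⟩
  have hN := N.ne_zero
  obtain ⟨P, hP⟩ := exists_psi_conj (Z := Y) (τ := τ / N) (N := N⁻¹)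
    (by
      simp [hY, diagGL, compGL, comp, trace_fin_two, mul_apply, Fin.sum_univ_two]
      ring)
    (by
      simp [hY, diagGL, compGL, comp, det_fin_two, mul_apply, Fin.sum_univ_two])
    (by
      rintro ⟨-, h, -⟩
      simp [hY, diagGL, compGL, comp, mul_apply, Fin.sum_univ_two] at h)
  refine h1.trans ⟨(psi P)⁻¹, inv_mem (psi_mem_group P), ?_⟩
  rw [hP]
  group

theorem gd_second {τ : F} {N : Fˣ} (h : Gd τ N) : Gd (τ / N) N⁻¹ := by
  obtain ⟨h1, h2, h3⟩ := h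
  have hN := N.ne_zero
  refine ⟨?_, ?_, ?_⟩
  · rw [Units.val_inv_eq_inv_val]
    exact fun e => h1 (inv_eq_one.1 e)
  · rw [Units.val_inv_eq_inv_val]
    intro e
    field_simp at e
    exact h2 (by linear_combination e)
  · rw [Units.val_inv_eq_inv_val]
    intro e
    field_simp at e
    exact h3 (by linear_combination e)

theorem disc_second {τ : F} {N : Fˣ} (h : τ ^ 2 - 4 * (N : F) ≠ 0) :
    (τ / N) ^ 2 - 4 * ((N⁻¹ : Fˣ) : F) ≠ 0 := by
  rw [Units.val_inv_eq_inv_val]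
  intro e
  have hN := N.ne_zero
  field_simp at e
  exact h (by linear_combination e)

/-! ### Covering -/

/-- `g` is a product of two conjugates of `x`. -/
def Cov (x g : GL chevG2.Idx F) : Prop :=
  ∃ u ∈ chevG2.group F, ∃ v ∈ chevG2.group F, g = (u * x * u⁻¹) * (v * x * v⁻¹)

/-- A class whose elements absorb. -/
structure Good (x : GL chevG2.Idx F) (τ : F) (N : Fˣ) : Prop where
  gd : Gd τ N
  disc : τ ^ 2 - 4 * (N : F) ≠ 0
  cj : Cj x (xe τ N)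

theorem Good.second {x : GL chevG2.Idx F} {τ : F} {N : Fˣ} (h : Good x τ N) :
    Good x (τ / N) N⁻¹ :=
  ⟨gd_second h.gd, disc_second h.disc, h.cj.trans (cj_second τ N)⟩

theorem cover {x g : GL chevG2.Idx F} {M : GL (Fin 2) F}
    {q p : GL chevG2.Idx F} (hq : q ∈ Q F 1) (hp : p ∈ P F 1) (hc : Cj g (q * psi M * p))
    {τ₁ τ₂ : F} {N₁ N₂ : Fˣ} (h₁ : Good x τ₁ N₁) (h₂ : Good x τ₂ N₂)
    (hprod : IsProd M.1 τ₁ N₁ τ₂ N₂) : Cov x g := by
  obtain ⟨Z₁, Z₂, hZ, t₁, d₁, t₂, d₂⟩ := hprod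
  set Y₁ : GL (Fin 2) F := GeneralLinearGroup.mk'' Z₁ (by rw [d₁]; exact N₁.isUnit)
  set Y₂ : GL (Fin 2) F := GeneralLinearGroup.mk'' Z₂ (by rw [d₂]; exact N₂.isUnit)
  have hY : M = Y₁ * Y₂ := Units.ext hZ.symm
  obtain ⟨P₁, e₁⟩ := exists_psi_conj (Z := Y₁) t₁ d₁
    (ne_scalar_of_disc (by show Z₁.trace ^ 2 - 4 * Z₁.det ≠ 0; rw [t₁, d₁]; exact h₁.disc))
  obtain ⟨P₂, e₂⟩ := exists_psi_conj (Z := Y₂) t₂ d₂
    (ne_scalar_of_disc (by show Z₂.trace ^ 2 - 4 * Z₂.det ≠ 0; rw [t₂, d₂]; exact h₂.disc))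
  have hq' : (psi P₁)⁻¹ * q * (psi P₁)⁻¹⁻¹ ∈ Q F 1 :=
    conj_mem (inv_mem (psi_mem_norm P₁ le_rfl)) hq
  obtain ⟨r₁, hr₁, f₁⟩ := absorb_Q h₁.gd _ hq'
  have hp' : (psi P₂)⁻¹ * p * (psi P₂)⁻¹⁻¹ ∈ P F 1 :=
    conj_mem (inv_mem (psi_mem_norm P₂ le_rfl)) hp
  obtain ⟨r₂, hr₂, f₂⟩ := absorb_right (xe_mem_norm _ _ le_rfl) (absorb_P h₂.gd) hp'
  obtain ⟨a₁, ha₁, k₁⟩ := h₁.cj
  obtain ⟨a₂, ha₂, k₂⟩ := h₂.cj
  obtain ⟨c, hcg, hce⟩ := hc
  refine ⟨c⁻¹ * psi P₁ * r₁ * a₁,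
    mul_mem (mul_mem (mul_mem (inv_mem hcg) (psi_mem_group _)) (L_le_group _ _ _ hr₁)) ha₁,
    c⁻¹ * psi P₂ * r₂ * a₂,
    mul_mem (mul_mem (mul_mem (inv_mem hcg) (psi_mem_group _)) (L_le_group _ _ _ hr₂)) ha₂, ?_⟩
  calc g = c⁻¹ * (c * g * c⁻¹) * c := by group
    _ = c⁻¹ * psi P₁ * ((psi P₁)⁻¹ * q * (psi P₁)⁻¹⁻¹ * xe τ₁ N₁) * (psi P₁)⁻¹ * c *
        (c⁻¹ * psi P₂ * (xe τ₂ N₂ * ((psi P₂)⁻¹ * p * (psi P₂)⁻¹⁻¹)) * (psi P₂)⁻¹ * c) := by
      rw [hce, hY, map_mul, e₁, e₂]; group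
    _ = _ := by
      rw [← f₁, ← f₂, ← k₁, ← k₂]; group

theorem to_levi {g : GL chevG2.Idx F} {A B : Fˣ} {a b : F} {q p : GL chevG2.Idx F}
    (hc : Cj g (q * phi 1 (lo a) * tor A B * (phi 1 (up b) * p))) :
    ∃ M : GL (Fin 2) F, M.1 = !![(B : F) / A, (B : F) / A * b;
        a * ((B : F) / A), a * ((B : F) / A) * b + (A : F) ^ 2 / B] ∧
      M.1.det = A ∧ Cj g (q * psi M * p) := by
  set α : Fˣ := B * A⁻¹
  set δ : Fˣ := A ^ 2 * B⁻¹
  set M := SpecialLinearGroup.toGL (lo a) * diagGL α δ * SpecialLinearGroup.toGL (up b) with hM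
  have hpsi : psi M = phi 1 (lo a) * tor A B * phi 1 (up b) := by
    rw [hM, map_mul, map_mul, psi_sl, psi_sl, psi_diag]
    congr 2
    congr 1
    · apply Units.ext; simp [α, δ]; field_simp
    · apply Units.ext; simp [α, δ]; field_simp
  have hval : M.1 = !![(B : F) / A, (B : F) / A * b;
      a * ((B : F) / A), a * ((B : F) / A) * b + (A : F) ^ 2 / B] := by
    show (lo a).1 * (diagGL α δ).1 * (up b).1 = _
    ext i j
    fin_cases i <;> fin_cases j <;>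
      simp [lo, up, diagGL, α, δ, mul_apply, Fin.sum_univ_two, div_eq_mul_inv]
  refine ⟨M, hval, ?_, ?_⟩
  · rw [hval, det_fin_two_of]
    have := A.ne_zero
    have := B.ne_zero
    field_simp
    ring
  · rw [hpsi]
    simpa only [mul_assoc] using hc

theorem St.levi {g : GL chevG2.Idx F} {A B : Fˣ} (h : St g A B) :
    ∃ q ∈ Q F 1, ∃ p ∈ P F 1, ∃ M : GL (Fin 2) F, M.1.det = A ∧ Cj g (q * psi M * p) := by
  obtain ⟨v, hv, u, hu, hg⟩ := h
  obtain ⟨a, q, hq, rfl⟩ := V_split hv 1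
  obtain ⟨b, p, hp, rfl⟩ := U_split hu 1
  obtain ⟨M, -, hd, hc⟩ := to_levi hg
  exact ⟨q, hq, p, hp, M, hd, hc⟩

/-! ### The order of the element -/

theorem not_dvd_orderOf {p : ℕ} [Fact p.Prime] [CharP F p] [Finite F] {τ : F} {N : Fˣ}
    (hdisc : τ ^ 2 - 4 * (N : F) ≠ 0) : ¬ p ∣ orderOf (xe τ N) := by
  intro hdvd
  have hY : p ∣ orderOf (compGL τ N) := hdvd.trans (orderOf_map_dvd psi (compGL τ N))
  have hpos : 0 < orderOf (compGL τ N) := orderOf_pos _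
  set Y : Matrix (Fin 2) (Fin 2) F := comp τ (N : F) with hYdef
  have hpow : ∀ k : ℕ, ∃ c d : F, Y ^ k = c • Y + d • 1 := by
    intro k
    induction k with
    | zero => exact ⟨0, 1, by simp⟩
    | succ k ih =>
      obtain ⟨c, d, h⟩ := ih
      refine ⟨c * τ + d, -(c * N), ?_⟩
      rw [pow_succ, h]
      ext i j
      fin_cases i <;> fin_cases j <;>
        simp [hYdef, comp, mul_apply, Fin.sum_univ_two] <;> ring
  obtain ⟨j, hj⟩ := hY
  have hu : (compGL τ N ^ j) ^ p = 1 := by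
    rw [← pow_mul, mul_comm, ← hj, pow_orderOf_eq_one]
  obtain ⟨c, d, hcd⟩ := hpow j
  set W : Matrix (Fin 2) (Fin 2) F := c • Y + (d - 1) • 1 with hW
  have hW' : W = Y ^ j - 1 := by rw [hcd, hW, sub_smul, one_smul]; abel
  have hWp : W ^ p = 0 := by
    rw [hW', sub_pow_char_of_commute _ (Commute.one_right _), one_pow]
    have : (Y ^ j) ^ p = 1 := by
      have := congrArg Units.val hu
      rwa [Units.val_pow_eq_pow_val, Units.val_pow_eq_pow_val] at this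
    rw [this, sub_self]
  have hdet : W.det = 0 := by
    have h : W.det ^ p = 0 := by
      rw [← det_pow, hWp]; exact det_zero
    exact pow_eq_zero_iff (Fact.out : p.Prime).ne_zero |>.1 h
  have htr : W.trace = 0 := (Matrix.isNilpotent_trace_of_isNilpotent ⟨p, hWp⟩).eq_zero
  have hc : c = 0 := by
    simp [hW, hYdef, comp, det_fin_two] at hdet
    simp [hW, hYdef, comp, trace_fin_two] at htr
    have : c ^ 2 * (τ ^ 2 - 4 * (N : F)) = 0 := by
      linear_combination (2 * (d - 1) + c * τ) * htr - 4 * hdet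
    rcases mul_eq_zero.1 this with h | h
    · simpa using h
    · exact absurd h hdisc
  have hd1 : d = 1 := by
    simp [hW, hYdef, comp, det_fin_two, hc] at hdet
    exact sub_eq_zero.1 hdet
  have h1 : compGL τ N ^ j = 1 := Units.ext (by
    rw [Units.val_pow_eq_pow_val]
    show Y ^ j = 1
    rw [hcd, hc, hd1, zero_smul, zero_add, one_smul])
  have hj0 : 0 < j := Nat.pos_of_ne_zero fun h => by rw [h, mul_zero] at hj; omega
  have := Nat.le_of_dvd hj0 (orderOf_dvd_of_pow_eq_one h1)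
  have h2 := (Fact.out : p.Prime).two_le
  nlinarith

end G2Cov
end H55
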