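import Cfsg.Agent.H55.G2Cov.States

/-!
`G₂`: the long root coordinate of a conjugate of an element of a radical is a binary cubic form.
-/

set_option autoImplicit false

namespace H55
namespace G2Cov

open Cfsg.Lie Matrix

variable {F : Type*} [Field F]

/-- Roots with both coordinates of sign `σ`. -/
abbrev InB (σ : ℤ) (u : ℕ) : Prop := u < 12 ∧ 1 ≤ σ * co u 0 ∧ 1 ≤ σ * co u 1

/-- The group of those roots. -/
noncomputable abbrev LB (F : Type*) [Field F] (σ : ℤ) : Subgroup (GL chevG2.Idx F) :=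
  H52.genBy chevG2 F (InB σ)

theorem X_mem_LB {σ : ℤ} {u : ℕ} (h : InB σ u) (t : F) : X u t ∈ LB F σ := H52.rt_mem_genBy h t

theorem LB_le (σ : ℤ) : LB F σ ≤ L F 0 σ 1 :=
  H52.genBy_mono fun _ h => ⟨h.1, h.2.1⟩

theorem X_norm_LB {σ : ℤ} {r : ℕ} (hr : r < 12) (h0 : 0 ≤ σ * co r 0) (h1 : 0 ≤ σ * co r 1)
    (a : F) : X r a ∈ Subgroup.normalizer (LB F σ : Set (GL chevG2.Idx F)) := by
  refine hC.rt_mem_normalizer_genBy hr (fun s hs => hs.1) ?_ (fun s u hs hu i j _ hj hco => ?_) a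
  · intro hn
    have h2 := hC.co_neg (r := r) hr (j := 0) (by decide)
    have h3 := hn.2.1
    rw [show co (chevG2.neg r) 0 = -(co r 0) from h2, mul_neg] at h3
    linarith
  · have key : ∀ k : ℕ, k < 2 → 0 ≤ σ * co r k → 1 ≤ σ * co s k → 1 ≤ σ * co u k := by
      intro k hk hr0 hs0
      have e := hco k hk
      change co u k = (i : ℤ) * co r k + (j : ℤ) * co s k at e
      rw [e, show σ * ((i : ℤ) * co r k + (j : ℤ) * co s k) =
        (i : ℤ) * (σ * co r k) + (j : ℤ) * (σ * co s k) by ring]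
      have h4 : (1 : ℤ) * 1 ≤ j * (σ * co s k) :=
        mul_le_mul (by exact_mod_cast hj) hs0 zero_le_one (by positivity)
      have h5 : 0 ≤ (i : ℤ) * (σ * co r k) := mul_nonneg (by positivity) hr0
      linarith
    exact ⟨hu, key 0 (by norm_num) h0 hs.2.1, key 1 (by norm_num) h1 hs.2.2⟩

theorem tor_norm_LB (A B : Fˣ) (σ : ℤ) :
    tor A B ∈ Subgroup.normalizer (LB F σ : Set (GL chevG2.Idx F)) :=
  hC.diag_mem_normalizer_genBy (fun _ hs => hs.1) (tor_mem_diag A B)

/-- `z` lies in `x_r(c) L`. -/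
def Cf (σ : ℤ) (r : ℕ) (c : F) (z : GL chevG2.Idx F) : Prop := (X r c)⁻¹ * z ∈ LB F σ

section Cf

variable {σ : ℤ} {r : ℕ}

theorem cf_self (c : F) : Cf σ r c (X r c) := by simp [Cf]

theorem cf_LB {z : GL chevG2.Idx F} (h : z ∈ LB F σ) : Cf σ r (0 : F) z := by
  show (H52.rt chevG2 r 0)⁻¹ * z ∈ _
  rw [hC.rt_zero, inv_one, one_mul]
  exact h

theorem cf_one : Cf σ r (0 : F) 1 := cf_LB (one_mem _)

variable (hr : r < 12) (h0 : 0 ≤ σ * co r 0) (h1 : 0 ≤ σ * co r 1)
include hr h0 h1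

theorem cf_mul {c d : F} {y z : GL chevG2.Idx F} (hy : Cf σ r c y) (hz : Cf σ r d z) :
    Cf σ r (c + d) (y * z) := by
  have := mul_mem (conj_mem (inv_mem (X_norm_LB hr h0 h1 d)) hy) hz
  rwa [show (X r d)⁻¹ * ((X r c)⁻¹ * y) * (X r d)⁻¹⁻¹ * ((X r d)⁻¹ * z) =
    (X r c * X r d)⁻¹ * (y * z) by group, hC.rt_mul] at this

theorem cf_inv {c : F} {y : GL chevG2.Idx F} (hy : Cf σ r c y) : Cf σ r (-c) y⁻¹ := by
  have := conj_mem (X_norm_LB hr h0 h1 c) (inv_mem hy)
  show (H52.rt chevG2 r (-c))⁻¹ * y⁻¹ ∈ _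
  rw [hC.rt_inv, _root_.neg_neg]
  rwa [show X r c * ((X r c)⁻¹ * y)⁻¹ * (X r c)⁻¹ = H52.rt chevG2 r c * y⁻¹ by group] at this

theorem cf_word (w : List (ℕ × F)) (hw : ∀ p ∈ w, InB σ p.1 ∨ p.1 = r) :
    Cf σ r ((w.map fun p => if p.1 = r ∧ ¬ InB σ p.1 then p.2 else 0).sum)
      (H52.wordRt chevG2 w) := by
  induction w with
  | nil => simpa [H52.wordRt] using cf_one
  | cons p w ih =>
    have e : H52.wordRt chevG2 (p :: w) = X p.1 p.2 * H52.wordRt chevG2 w := by simp [H52.wordRt]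
    rw [e, List.map_cons, List.sum_cons]
    refine cf_mul hr h0 h1 ?_ (ih fun q hq => hw q (List.mem_cons_of_mem _ hq))
    rcases hw p List.mem_cons_self with h | h
    · rw [if_neg (fun hh => hh.2 h)]; exact cf_LB (X_mem_LB h _)
    · by_cases hB : InB σ p.1
      · rw [if_neg (fun hh => hh.2 hB)]; exact cf_LB (X_mem_LB hB _)
      · rw [if_pos ⟨h, hB⟩, h]; exact cf_self _

end Cf

/-- A binary cubic. -/
def cub (d : Fin 4 → F) (x y : F) : F := d 0 * x ^ 3 + d 1 * (x ^ 2 * y) + d 2 * (x * y ^ 2) + d 3 * y ^ 3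

theorem conj_cf {σ : ℤ} {r : ℕ} (k : GL chevG2.Idx F)
    (hk : k ∈ Subgroup.normalizer (LB F σ : Set (GL chevG2.Idx F))) {c : F}
    (h : Cf σ r c (k * X r c * k⁻¹)) {z : GL chevG2.Idx F} (hz : Cf σ r c z) :
    Cf σ r c (k * z * k⁻¹) := by
  have := mul_mem h (conj_mem hk hz)
  rwa [show (X r c)⁻¹ * (k * X r c * k⁻¹) * (k * ((X r c)⁻¹ * z) * k⁻¹) =
    (X r c)⁻¹ * (k * z * k⁻¹) by group] at this

/-- Conjugating a root element by another root element. -/
theorem conj_word {p q : ℕ} (hp : p < 12) (hq : q < 12) (hpq : q ≠ p) (hneg : q ≠ chevG2.neg p)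
    (b w : F) : X p b * X q w * (X p b)⁻¹ = X q w * H52.wordRt chevG2 (chevG2.commWord F p q (-b) w) := by
  have := hC.comm_rt hp hq hpq hneg (-b) w
  rw [show X p b = (H52.rt chevG2 p (-b))⁻¹ by rw [hC.rt_inv, _root_.neg_neg], inv_inv]
  calc (H52.rt chevG2 p (-b))⁻¹ * X q w * H52.rt chevG2 p (-b)
      = (H52.rt chevG2 p (-b))⁻¹ * (H52.rt chevG2 q w * H52.rt chevG2 p (-b)) := by group
    _ = _ := by rw [this]; group

/-! ### The positive side -/

theorem six_up (a c : F) {z : GL chevG2.Idx F} (hz : Cf 1 6 c z) :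
    Cf 1 6 c (phi 0 (up a) * z * (phi 0 (up a))⁻¹) := by
  rw [phi_up]
  have hn := X_norm_LB (σ := 1) (r := 7) (by norm_num) (by decide) (by decide) a
  refine conj_cf _ hn ?_ hz
  show (X 6 c)⁻¹ * (X 7 a * X 6 c * (X 7 a)⁻¹) ∈ _
  rw [conj_word (by norm_num) (by norm_num) (by norm_num) (by decide), inv_mul_cancel_left]
  refine H52.Checked.wordRt_mem _ _ fun e he => ?_
  obtain ⟨t, ht, rfl⟩ := List.mem_map.1 he
  have key : ∀ t ∈ chevG2.commTerms 7 6, InB 1 t.1 := by decide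
  exact X_mem_LB (key t ht) _

theorem six_low {r : ℕ} (hr : r < 12) (h : 1 ≤ (1 : ℤ) * co r 1) (b w : F) :
    Cf 1 6 (w * (![(1 : F), 0, -(3 * b), 3 * b ^ 2, b ^ 3, 0] : Fin 6 → F)
      ⟨r - 6, by omega⟩) (X 4 b * X r w * (X 4 b)⁻¹) := by
  have h6 : (6 : ℕ) < 12 := by norm_num
  have a0 : 0 ≤ (1 : ℤ) * co 6 0 := by decide
  have a1 : 0 ≤ (1 : ℤ) * co 6 1 := by decide
  have hs : r ∈ [6, 8, 9, 10, 11] := by
    have key : ∀ r < 12, 1 ≤ (1 : ℤ) * co r 1 → r ∈ [6, 8, 9, 10, 11] := by decide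
    exact key r hr h
  simp only [List.mem_cons, List.not_mem_nil, or_false] at hs
  rcases hs with rfl | rfl | rfl | rfl | rfl
  all_goals rw [conj_word (by norm_num) (by norm_num) (by norm_num) (by decide)]
  · have e : chevG2.commTerms 4 6 = [] := by decide
    simp [Cfsg.Lie.ChevalleyDatum.commWord, e, H52.wordRt]
    exact cf_self w
  · have e : chevG2.commTerms 4 8 = [(6, -3, 1, 1)] := by decide
    have h2 := cf_mul h6 a0 a1 (cf_LB (X_mem_LB (show InB 1 8 by decide) w))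
      (cf_word h6 a0 a1 (chevG2.commWord F 4 8 (-b) w) (by
        simp [Cfsg.Lie.ChevalleyDatum.commWord, e]))
    convert h2 using 1
    simp [Cfsg.Lie.ChevalleyDatum.commWord, e, show co 6 0 = 0 by decide]
    ring
  · have e : chevG2.commTerms 4 9 = [(8, -2, 1, 1), (6, 3, 2, 1), (11, -3, 1, 2)] := by decide
    have h2 := cf_mul h6 a0 a1 (cf_LB (X_mem_LB (show InB 1 9 by decide) w))
      (cf_word h6 a0 a1 (chevG2.commWord F 4 9 (-b) w) (by
        simp [Cfsg.Lie.ChevalleyDatum.commWord, e]; decide))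
    convert h2 using 1
    simp [Cfsg.Lie.ChevalleyDatum.commWord, e, show co 6 0 = 0 by decide]
    ring
  · have e : chevG2.commTerms 4 10 = [(9, 1, 1, 1), (8, -1, 2, 1), (6, 1, 3, 1), (11, -1, 3, 2)] := by
      decide
    have h2 := cf_mul h6 a0 a1 (cf_LB (X_mem_LB (show InB 1 10 by decide) w))
      (cf_word h6 a0 a1 (chevG2.commWord F 4 10 (-b) w) (by
        simp [Cfsg.Lie.ChevalleyDatum.commWord, e]; decide))
    convert h2 using 1
    simp [Cfsg.Lie.ChevalleyDatum.commWord, e, show co 6 0 = 0 by decide]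
    ring
  · have e : chevG2.commTerms 4 11 = [] := by decide
    simp [Cfsg.Lie.ChevalleyDatum.commWord, e, H52.wordRt]
    exact cf_LB (X_mem_LB (by decide) w)

theorem ev0 (u : Fˣ) (r : ℕ) : ev u 1 r = u ^ chevG2.cartan 0 r := by simp [ev]

theorem phi_w (r : ℕ) (hr : r < 12) (u : Fˣ) (w : F) :
    H52.nElt chevG2 7 (1 : F) * phi 0 (di u) * X r w *
      (H52.nElt chevG2 7 (1 : F) * phi 0 (di u))⁻¹ =
    X (chevG2.reflectRoot 0 r)
      ((H52.tablesG2.eps 0 r : F) * (((u ^ chevG2.cartan 0 r : Fˣ) : F) * w)) := by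
  have h1 := tor_X u 1 hr w
  have h2 := hC.sig_conj_rt (show 0 < chevG2.rank by decide) (r := r) hr ((ev u 1 r : F) * w)
  rw [show chevG2.simple 0 = 7 from rfl] at h2
  rw [phi_di_zero, ← ev0]
  calc _ = H52.nElt chevG2 7 (1 : F) * (tor u 1 * X r w * (tor u 1)⁻¹) *
        (H52.nElt chevG2 7 (1 : F))⁻¹ := by group
    _ = _ := by rw [h1]; exact h2

theorem phi_weyl : phi 0 (up (1 : F) * lo (-1) * up 1) = H52.nElt chevG2 7 (1 : F) := by
  rw [map_mul, map_mul, phi_up, phi_lo, H52.Checked.nElt_eq, inv_one]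
  rfl

theorem six_gen {r : ℕ} (hr : r < 12) (h : 1 ≤ (1 : ℤ) * co r 1) (w : F) :
    ∃ d : Fin 4 → F, ∀ s : SpecialLinearGroup (Fin 2) F,
      Cf 1 6 (cub d (s.1 1 0) (s.1 1 1)) (phi 0 s * X r w * (phi 0 s)⁻¹) := by
  have hs : r ∈ [6, 8, 9, 10, 11] := by
    have key : ∀ r < 12, 1 ≤ (1 : ℤ) * co r 1 → r ∈ [6, 8, 9, 10, 11] := by decide
    exact key r hr h
  refine ⟨![if r = 10 then w else 0, if r = 9 then 3 * w else 0, if r = 8 then -(3 * w) else 0,
    if r = 6 then w else 0], fun s => ?_⟩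
  have hdet := s.2
  rw [det_fin_two] at hdet
  by_cases h11 : s.1 1 1 = 0
  · rw [h11] at hdet
    have hc : s.1 1 0 ≠ 0 := fun e => by rw [e] at hdet; simp at hdet
    set u : Fˣ := Units.mk0 (-(s.1 1 0)) (neg_ne_zero.2 hc)
    have es : s = up (s.1 0 0 / s.1 1 0) * (up (1 : F) * lo (-1) * up 1 * di u) := by
      apply Subtype.ext
      simp only [sl_val_mul]
      simp only [up, lo, di, u, Units.val_inv_eq_inv_val, Units.val_mk0]
      ext i j
      fin_cases i <;> fin_cases j <;> simp [mul_apply, Fin.sum_univ_two, h11] <;> field_simp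
      linear_combination -hdet
    have e : phi 0 s * X r w * (phi 0 s)⁻¹ = phi 0 (up (s.1 0 0 / s.1 1 0)) *
        (H52.nElt chevG2 7 (1 : F) * phi 0 (di u) * X r w *
          (H52.nElt chevG2 7 (1 : F) * phi 0 (di u))⁻¹) *
        (phi 0 (up (s.1 0 0 / s.1 1 0)))⁻¹ := by
      rw [← phi_weyl]
      conv_lhs => rw [es]
      simp only [map_mul]
      group
    rw [e, phi_w r hr]
    refine six_up _ _ ?_
    simp only [List.mem_cons, List.not_mem_nil, or_false] at hs
    rcases hs with rfl | rfl | rfl | rfl | rfl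
    all_goals simp [cub, h11]
    · rw [show chevG2.reflectRoot 0 6 = 10 by decide]; exact cf_LB (X_mem_LB (by decide) _)
    · rw [show chevG2.reflectRoot 0 8 = 9 by decide]; exact cf_LB (X_mem_LB (by decide) _)
    · rw [show chevG2.reflectRoot 0 9 = 8 by decide]; exact cf_LB (X_mem_LB (by decide) _)
    · rw [show chevG2.reflectRoot 0 10 = 6 by decide, show H52.tablesG2.eps 0 10 = -1 by decide,
        show chevG2.cartan 0 10 = 3 by decide, zpow_ofNat]
      convert cf_self (σ := 1) (r := 6) (w * s.1 1 0 ^ 3) using 2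
      simp [u]
      ring
    · rw [show chevG2.reflectRoot 0 11 = 11 by decide]; exact cf_LB (X_mem_LB (by decide) _)
  · set t : Fˣ := (Units.mk0 (s.1 1 1) h11)⁻¹ with ht
    have es : s = up (s.1 0 1 / s.1 1 1) * (lo (s.1 1 0 * s.1 1 1) * di t) := by
      apply Subtype.ext
      simp only [sl_val_mul]
      simp only [up, lo, di, ht, Units.val_inv_eq_inv_val, Units.val_mk0, inv_inv]
      ext i j
      fin_cases i <;> fin_cases j <;> simp [mul_apply, Fin.sum_univ_two] <;> field_simp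
      linear_combination hdet
    have e : phi 0 s * X r w * (phi 0 s)⁻¹ = phi 0 (up (s.1 0 1 / s.1 1 1)) *
        (X 4 (s.1 1 0 * s.1 1 1) * (tor t 1 * X r w * (tor t 1)⁻¹) *
          (X 4 (s.1 1 0 * s.1 1 1))⁻¹) *
        (phi 0 (up (s.1 0 1 / s.1 1 1)))⁻¹ := by
      conv_lhs => rw [es]
      rw [← phi_di_zero, show X 4 (s.1 1 0 * s.1 1 1) = phi 0 (lo (s.1 1 0 * s.1 1 1)) from
        (phi_lo 0 _).symm]
      simp only [map_mul]
      group
    rw [e, tor_X _ _ hr]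
    refine six_up _ _ ?_
    have h2 := six_low hr h (s.1 1 0 * s.1 1 1) ((ev t 1 r : F) * w)
    convert h2 using 1
    rw [ev0, ht]
    simp only [List.mem_cons, List.not_mem_nil, or_false] at hs
    rcases hs with rfl | rfl | rfl | rfl | rfl
    · rw [show chevG2.cartan 0 6 = -3 by decide]
      simp [cub, zpow_ofNat]; field_simp
    · rw [show chevG2.cartan 0 8 = -1 by decide]
      simp [cub]; field_simp
    · rw [show chevG2.cartan 0 9 = 1 by decide]
      simp [cub]; field_simp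
    · rw [show chevG2.cartan 0 10 = 3 by decide]
      simp [cub, zpow_ofNat]; field_simp
    · simp [cub]

/-! ### The negative side -/

theorem five_lo (a c : F) {z : GL chevG2.Idx F} (hz : Cf (-1) 5 c z) :
    Cf (-1) 5 c (phi 0 (lo a) * z * (phi 0 (lo a))⁻¹) := by
  rw [phi_lo]
  have hn := X_norm_LB (σ := -1) (r := 4) (by norm_num) (by decide) (by decide) a
  refine conj_cf _ hn ?_ hz
  show (X 5 c)⁻¹ * (X 4 a * X 5 c * (X 4 a)⁻¹) ∈ _
  rw [conj_word (by norm_num) (by norm_num) (by norm_num) (by decide), inv_mul_cancel_left]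
  refine H52.Checked.wordRt_mem _ _ fun e he => ?_
  obtain ⟨t, ht, rfl⟩ := List.mem_map.1 he
  have key : ∀ t ∈ chevG2.commTerms 4 5, InB (-1) t.1 := by decide
  exact X_mem_LB (key t ht) _

theorem five_high {r : ℕ} (hr : r < 6) (h : 1 ≤ (-1 : ℤ) * co r 1) (b w : F) :
    Cf (-1) 5 (w * (![(0 : F), -b ^ 3, 3 * b ^ 2, 3 * b, 0, 1] : Fin 6 → F) ⟨r, hr⟩)
      (X 7 b * X r w * (X 7 b)⁻¹) := by
  have h5 : (5 : ℕ) < 12 := by norm_num
  have a0 : 0 ≤ (-1 : ℤ) * co 5 0 := by decide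
  have a1 : 0 ≤ (-1 : ℤ) * co 5 1 := by decide
  have hs : r ∈ [0, 1, 2, 3, 5] := by
    have key : ∀ r < 6, 1 ≤ (-1 : ℤ) * co r 1 → r ∈ [0, 1, 2, 3, 5] := by decide
    exact key r hr h
  simp only [List.mem_cons, List.not_mem_nil, or_false] at hs
  rcases hs with rfl | rfl | rfl | rfl | rfl
  all_goals rw [conj_word (by norm_num) (by norm_num) (by norm_num) (by decide)]
  · have e : chevG2.commTerms 7 0 = [] := by decide
    simp [Cfsg.Lie.ChevalleyDatum.commWord, e, H52.wordRt]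
    exact cf_LB (X_mem_LB (by decide) w)
  · have e : chevG2.commTerms 7 1 = [(2, -1, 1, 1), (3, -1, 2, 1), (5, -1, 3, 1), (0, -1, 3, 2)] := by
      decide
    have h2 := cf_mul h5 a0 a1 (cf_LB (X_mem_LB (show InB (-1) 1 by decide) w))
      (cf_word h5 a0 a1 (chevG2.commWord F 7 1 (-b) w) (by
        simp [Cfsg.Lie.ChevalleyDatum.commWord, e]; decide))
    convert h2 using 1
    simp [Cfsg.Lie.ChevalleyDatum.commWord, e, show co 5 0 = 0 by decide]
    ring
  · have e : chevG2.commTerms 7 2 = [(3, 2, 1, 1), (5, 3, 2, 1), (0, -3, 1, 2)] := by decide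
    have h2 := cf_mul h5 a0 a1 (cf_LB (X_mem_LB (show InB (-1) 2 by decide) w))
      (cf_word h5 a0 a1 (chevG2.commWord F 7 2 (-b) w) (by
        simp [Cfsg.Lie.ChevalleyDatum.commWord, e]; decide))
    convert h2 using 1
    simp [Cfsg.Lie.ChevalleyDatum.commWord, e, show co 5 0 = 0 by decide]
    ring
  · have e : chevG2.commTerms 7 3 = [(5, 3, 1, 1)] := by decide
    have h2 := cf_mul h5 a0 a1 (cf_LB (X_mem_LB (show InB (-1) 3 by decide) w))
      (cf_word h5 a0 a1 (chevG2.commWord F 7 3 (-b) w) (by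
        simp [Cfsg.Lie.ChevalleyDatum.commWord, e]))
    convert h2 using 1
    simp [Cfsg.Lie.ChevalleyDatum.commWord, e, show co 5 0 = 0 by decide]
    ring
  · have e : chevG2.commTerms 7 5 = [] := by decide
    simp [Cfsg.Lie.ChevalleyDatum.commWord, e, H52.wordRt]
    exact cf_self w

theorem five_gen {r : ℕ} (hr : r < 6) (h : 1 ≤ (-1 : ℤ) * co r 1) (w : F) :
    ∃ d : Fin 4 → F, ∀ s : SpecialLinearGroup (Fin 2) F,
      Cf (-1) 5 (cub d (s.1 0 0) (s.1 0 1)) (phi 0 s * X r w * (phi 0 s)⁻¹) := by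
  have hr' : r < 12 := by omega
  have hs : r ∈ [0, 1, 2, 3, 5] := by
    have key : ∀ r < 6, 1 ≤ (-1 : ℤ) * co r 1 → r ∈ [0, 1, 2, 3, 5] := by decide
    exact key r hr h
  refine ⟨![if r = 5 then w else 0, if r = 3 then 3 * w else 0, if r = 2 then 3 * w else 0,
    if r = 1 then -w else 0], fun s => ?_⟩
  have hdet := s.2
  rw [det_fin_two] at hdet
  by_cases h00 : s.1 0 0 = 0
  · rw [h00] at hdet
    have hc : s.1 0 1 ≠ 0 := fun e => by rw [e] at hdet; simp at hdet
    set u : Fˣ := (Units.mk0 (s.1 0 1) hc)⁻¹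
    have es : s = lo (s.1 1 1 / s.1 0 1) * (up (1 : F) * lo (-1) * up 1 * di u) := by
      apply Subtype.ext
      simp only [sl_val_mul]
      simp only [up, lo, di, u, Units.val_inv_eq_inv_val, Units.val_mk0, inv_inv]
      ext i j
      fin_cases i <;> fin_cases j <;> simp [mul_apply, Fin.sum_univ_two, h00] <;> field_simp
      linear_combination -hdet
    have e : phi 0 s * X r w * (phi 0 s)⁻¹ = phi 0 (lo (s.1 1 1 / s.1 0 1)) *
        (H52.nElt chevG2 7 (1 : F) * phi 0 (di u) * X r w *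
          (H52.nElt chevG2 7 (1 : F) * phi 0 (di u))⁻¹) *
        (phi 0 (lo (s.1 1 1 / s.1 0 1)))⁻¹ := by
      rw [← phi_weyl]
      conv_lhs => rw [es]
      simp only [map_mul]
      group
    rw [e, phi_w r hr']
    refine five_lo _ _ ?_
    simp only [List.mem_cons, List.not_mem_nil, or_false] at hs
    rcases hs with rfl | rfl | rfl | rfl | rfl
    all_goals simp [cub, h00]
    · rw [show chevG2.reflectRoot 0 0 = 0 by decide]; exact cf_LB (X_mem_LB (by decide) _)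
    · rw [show chevG2.reflectRoot 0 1 = 5 by decide, show H52.tablesG2.eps 0 1 = -1 by decide,
        show chevG2.cartan 0 1 = -3 by decide, _root_.zpow_neg, zpow_ofNat]
      convert cf_self (σ := -1) (r := 5) (-(w * s.1 0 1 ^ 3)) using 2
      simp [u]
      ring
    · rw [show chevG2.reflectRoot 0 2 = 3 by decide]; exact cf_LB (X_mem_LB (by decide) _)
    · rw [show chevG2.reflectRoot 0 3 = 2 by decide]; exact cf_LB (X_mem_LB (by decide) _)
    · rw [show chevG2.reflectRoot 0 5 = 1 by decide]; exact cf_LB (X_mem_LB (by decide) _)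
  · set t : Fˣ := Units.mk0 (s.1 0 0) h00 with ht
    have es : s = lo (s.1 1 0 / s.1 0 0) * (up (s.1 0 1 * s.1 0 0) * di t) := by
      apply Subtype.ext
      simp only [sl_val_mul]
      simp only [up, lo, di, ht, Units.val_inv_eq_inv_val, Units.val_mk0]
      ext i j
      fin_cases i <;> fin_cases j <;> simp [mul_apply, Fin.sum_univ_two] <;> field_simp
      linear_combination hdet
    have e : phi 0 s * X r w * (phi 0 s)⁻¹ = phi 0 (lo (s.1 1 0 / s.1 0 0)) *
        (X 7 (s.1 0 1 * s.1 0 0) * (tor t 1 * X r w * (tor t 1)⁻¹) *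
          (X 7 (s.1 0 1 * s.1 0 0))⁻¹) *
        (phi 0 (lo (s.1 1 0 / s.1 0 0)))⁻¹ := by
      conv_lhs => rw [es]
      rw [← phi_di_zero, show X 7 (s.1 0 1 * s.1 0 0) = phi 0 (up (s.1 0 1 * s.1 0 0)) from
        (phi_up 0 _).symm]
      simp only [map_mul]
      group
    rw [e, tor_X _ _ hr']
    refine five_lo _ _ ?_
    have h2 := five_high hr h (s.1 0 1 * s.1 0 0) ((ev t 1 r : F) * w)
    convert h2 using 1
    rw [ev0, ht]
    simp only [List.mem_cons, List.not_mem_nil, or_false] at hs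
    rcases hs with rfl | rfl | rfl | rfl | rfl
    · simp [cub]
    · rw [show chevG2.cartan 0 1 = -3 by decide]
      simp [cub, zpow_ofNat, _root_.zpow_neg]; field_simp
    · rw [show chevG2.cartan 0 2 = -1 by decide]
      simp [cub]; field_simp
    · rw [show chevG2.cartan 0 3 = 1 by decide]
      simp [cub]; field_simp
    · rw [show chevG2.cartan 0 5 = 3 by decide]
      simp [cub, zpow_ofNat]; field_simp

/-- The coordinate of a conjugate under the short `SL₂` is a cubic form in a row of the matrix. -/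
theorem exists_cubic {σ : ℤ} {r : ℕ} (hr : r < 12) (h0 : 0 ≤ σ * co r 0) (h1 : 0 ≤ σ * co r 1)
    (row : SpecialLinearGroup (Fin 2) F → F × F)
    (hgen : ∀ u w, InL 1 σ 1 u → ∃ d : Fin 4 → F, ∀ s,
      Cf σ r (cub d (row s).1 (row s).2) (phi 0 s * X u w * (phi 0 s)⁻¹))
    {z : GL chevG2.Idx F} (hz : z ∈ L F 1 σ 1) :
    ∃ d : Fin 4 → F, ∀ s, Cf σ r (cub d (row s).1 (row s).2) (phi 0 s * z * (phi 0 s)⁻¹) := by
  induction hz using Subgroup.closure_induction with
  | mem x hx =>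
    obtain ⟨u, w, hu, rfl⟩ := hx
    exact hgen u w hu
  | one => exact ⟨0, fun s => by simpa [cub] using cf_one⟩
  | mul x y _ _ hx hy =>
    obtain ⟨d, hd⟩ := hx
    obtain ⟨e, he⟩ := hy
    refine ⟨d + e, fun s => ?_⟩
    have := cf_mul hr h0 h1 (hd s) (he s)
    rw [show phi 0 s * (x * y) * (phi 0 s)⁻¹ =
      phi 0 s * x * (phi 0 s)⁻¹ * (phi 0 s * y * (phi 0 s)⁻¹) by group]
    convert this using 1
    simp [cub]; ring
  | inv x _ hx =>
    obtain ⟨d, hd⟩ := hx
    refine ⟨-d, fun s => ?_⟩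
    have := cf_inv hr h0 h1 (hd s)
    rw [show phi 0 s * x⁻¹ * (phi 0 s)⁻¹ = (phi 0 s * x * (phi 0 s)⁻¹)⁻¹ by group]
    convert this using 1
    simp [cub]; ring

theorem cubic_P {p : GL chevG2.Idx F} (hp : p ∈ P F 0) :
    ∃ d : Fin 4 → F, ∀ s : SpecialLinearGroup (Fin 2) F,
      Cf 1 6 (cub d (s.1 1 0) (s.1 1 1)) (phi 0 s * p * (phi 0 s)⁻¹) :=
  exists_cubic (by norm_num) (by decide) (by decide) (fun s => (s.1 1 0, s.1 1 1))
    (fun _ w hu => six_gen hu.1 hu.2 w) hp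

theorem cubic_Q {q : GL chevG2.Idx F} (hq : q ∈ Q F 0) :
    ∃ d : Fin 4 → F, ∀ s : SpecialLinearGroup (Fin 2) F,
      Cf (-1) 5 (cub d (s.1 0 0) (s.1 0 1)) (phi 0 s * q * (phi 0 s)⁻¹) :=
  exists_cubic (by norm_num) (by decide) (by decide) (fun s => (s.1 0 0, s.1 0 1))
    (fun u w hu => five_gen
      (by
        have key : ∀ u < 12, (1 : ℤ) ≤ -1 * co u 1 → u < 6 := by decide
        exact key u hu.1 hu.2) hu.2 w) hq

end G2Cov
end H55
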