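import Cfsg.Agent.H55.G2Cov.Cover
import Cfsg.Agent.H55.G2Cov.Cubic

/-!
`G₂(4)`: every nontrivial element has a conjugate with Levi part scalar or of nonzero trace.
-/

set_option autoImplicit false

namespace H55
namespace G2Cov

open Cfsg.Lie Matrix

variable {F : Type*} [Field F]

/-- The sesquilinear form of a cubic in characteristic two. -/
def frob (d : Fin 4 → F) (x y : Fin 2 → F) : F :=
  (d 3 * x 0 ^ 2 + d 1 * x 1 ^ 2) * y 0 + (d 2 * x 0 ^ 2 + d 0 * x 1 ^ 2) * y 1

theorem cubic_contra [CharP F 2] {N : F} (hN0 : N ≠ 0) (hN1 : N ≠ 1) (hN3 : N ^ 3 = 1)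
    {M : Matrix (Fin 2) (Fin 2) F}
    (hns : ¬ (M 0 1 = 0 ∧ M 1 0 = 0 ∧ M 0 0 = M 1 1)) (hd0 : M.det ≠ 0) (hd1 : M.det ≠ 1)
    (d : Fin 4 → F)
    (h : ∀ e : Fin 2 → F, wedge M e ≠ 0 → ∃ K : F, K ≠ 0 ∧ ∀ τ : F, τ ≠ 0 →
      cub d ((M *ᵥ e) 1 + τ * e 1) ((M *ᵥ e) 0 + τ * e 0) = K) : False := by
  have h2 : (2 : F) = 0 := CharTwo.two_eq_zero
  have exp : ∀ (x y : Fin 2 → F) (τ : F), cub d (y 1 + τ * x 1) (y 0 + τ * x 0) =
      frob d y y + τ * frob d y x + τ ^ 2 * frob d x y + τ ^ 3 * frob d x x := by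
    intro x y τ
    simp only [cub, frob, pow_succ, pow_zero, one_mul]
    linear_combination (d 0 * τ * x 1 * y 1 * (y 1 + τ * x 1) +
      d 1 * τ * x 1 * y 1 * (y 0 + τ * x 0) + d 2 * τ * x 0 * y 0 * (y 1 + τ * x 1) +
      d 3 * τ * x 0 * y 0 * (y 0 + τ * x 0)) * h2
  have kill : ∀ e, wedge M e ≠ 0 → frob d e (M *ᵥ e) = 0 ∧ frob d (M *ᵥ e) e = 0 := by
    intro e he
    obtain ⟨K, -, hK⟩ := h e he
    set v := M *ᵥ e
    have a1 := (exp e v 1).symm.trans (hK 1 one_ne_zero)
    have a2 := (exp e v N).symm.trans (hK N hN0)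
    have a3 := (exp e v (N ^ 2)).symm.trans (hK _ (pow_ne_zero 2 hN0))
    have hne : (1 : F) - N ≠ 0 := sub_ne_zero.2 (Ne.symm hN1)
    have b1 : frob d v e + (1 + N) * frob d e v = 0 := by
      have : (1 - N) * (frob d v e + (1 + N) * frob d e v) = 0 := by
        linear_combination a1 - a2 + frob d e e * hN3
      exact (mul_eq_zero.1 this).resolve_left hne
    have b2 : (1 + N) * frob d v e + frob d e v = 0 := by
      have : (1 - N) * ((1 + N) * frob d v e + frob d e v) = 0 := by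
        linear_combination a1 - a3 + (N * frob d e v + (N ^ 3 + 1) * frob d e e) * hN3
      exact (mul_eq_zero.1 this).resolve_left hne
    have c1 : frob d e v = 0 := by
      have : N ^ 2 * frob d e v = 0 := by
        linear_combination (1 + N) * b1 - b2 - N * frob d e v * h2
      exact (mul_eq_zero.1 this).resolve_left (pow_ne_zero 2 hN0)
    refine ⟨c1, ?_⟩
    linear_combination b1 - (1 + N) * c1
  obtain ⟨u, hu0⟩ := exists_noneigen hns
  have hu : wedge M u ≠ 0 := hu0
  set v := M *ᵥ u with hv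
  obtain ⟨huv, hvu⟩ := kill u hu
  set t := M.trace with ht
  set l := M.det with hl
  have hvM : M *ᵥ v = t • v + l • u := by
    funext i
    fin_cases i <;>
      simp [hv, ht, hl, mulVec, dotProduct, Fin.sum_univ_two, trace_fin_two, det_fin_two]
    · linear_combination (M 0 1 * M 1 0 - M 0 0 * M 1 1) * u 0 * h2
    · linear_combination (M 0 1 * M 1 0 - M 0 0 * M 1 1) * u 1 * h2
  have lin : ∀ a b c e : F, frob d (a • u + b • v) (c • u + e • v) =
      a ^ 2 * c * frob d u u + a ^ 2 * e * frob d u v + b ^ 2 * c * frob d v u +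
        b ^ 2 * e * frob d v v := by
    intro a b c e
    simp only [frob, Pi.add_apply, Pi.smul_apply, smul_eq_mul, pow_succ, pow_zero, one_mul]
    linear_combination (a * b * (d 3 * u 0 * v 0 + d 1 * u 1 * v 1) * (c * u 0 + e * v 0) +
      a * b * (d 2 * u 0 * v 0 + d 0 * u 1 * v 1) * (c * u 1 + e * v 1)) * h2
  have wlin : ∀ a b : F, wedge M (a • u + b • v) = (a ^ 2 + t * a * b + l * b ^ 2) * wedge M u := by
    intro a b
    simp [wedge, hv, ht, hl, mulVec, dotProduct, Fin.sum_univ_two, trace_fin_two, det_fin_two]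
    ring
  have Mlin : ∀ a b : F, M *ᵥ (a • u + b • v) = (b * l) • u + (a + b * t) • v := by
    intro a b
    rw [mulVec_add, mulVec_smul, mulVec_smul, hvM, ← hv]
    module
  have key : frob d u u = 0 ∧ frob d v v = 0 := by
    by_cases t0 : t = 0
    · have hw : wedge M ((1 : F) • u + (1 : F) • v) ≠ 0 := by
        rw [wlin, t0]
        refine mul_ne_zero ?_ hu
        simp only [one_pow, zero_mul, mul_one, add_zero]
        intro e
        exact hd1 (by linear_combination e - h2)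
      obtain ⟨e1, e2⟩ := kill _ hw
      rw [Mlin, lin, t0] at e1 e2
      rw [huv, hvu] at e1 e2
      simp at e1 e2
      have hl' : l * (1 - l) ≠ 0 := mul_ne_zero hd0 (sub_ne_zero.2 (Ne.symm hd1))
      have huu : frob d u u = 0 :=
        (mul_eq_zero.1 (show l * (1 - l) * frob d u u = 0 by linear_combination e1 - e2)).resolve_left hl'
      refine ⟨huu, ?_⟩
      rw [huu] at e1
      simpa using e1
    · have hw1 : wedge M ((0 : F) • u + (1 : F) • v) ≠ 0 := by
        rw [wlin]
        exact mul_ne_zero (by simpa using hd0) hu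
      obtain ⟨e1, -⟩ := kill _ hw1
      rw [Mlin, lin, huv, hvu] at e1
      simp [t0] at e1
      have hw2 : wedge M (t • u + (1 : F) • v) ≠ 0 := by
        rw [wlin]
        refine mul_ne_zero ?_ hu
        intro e
        exact hd0 (by linear_combination e - t ^ 2 * h2)
      obtain ⟨e2, -⟩ := kill _ hw2
      rw [Mlin, lin, huv, hvu, e1] at e2
      simp [t0, hd0] at e2
      exact ⟨e2, e1⟩
  obtain ⟨K, hK0, hK⟩ := h u hu
  have := (exp u v 1).symm.trans (hK 1 one_ne_zero)
  rw [huv, hvu, key.1, key.2] at this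
  exact hK0 (by simpa using this.symm)

theorem cube_one [Fintype F] (h4 : Fintype.card F = 4) {x : F} (hx : x ≠ 0) : x ^ 3 = 1 := by
  have := FiniteField.pow_card_sub_one_eq_one x hx
  rwa [h4] at this

theorem two_eq_zero_four [Fintype F] (h4 : Fintype.card F = 4) : (2 : F) = 0 := by
  have h := FiniteField.cast_card_eq_zero F
  rw [h4] at h
  have : (2 : F) * 2 = 0 := by push_cast at h; linear_combination h
  exact mul_self_eq_zero.1 this

/-- The state of `G₂(4)` with scalar Levi part or nonzero trace. -/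
theorem four_state [Fintype F] (h4 : Fintype.card F = 4) {g : GL chevG2.Idx F}
    (hg : g ∈ chevG2.group F) (hg1 : g ≠ 1) {N : Fˣ} (hN : (N : F) ≠ 1) :
    ∃ q ∈ Q F 1, ∃ p ∈ P F 1, ∃ M : GL (Fin 2) F, Cj g (q * psi M * p) ∧
      (M.1.trace ≠ 0 ∨ (M.1 0 1 = 0 ∧ M.1 1 0 = 0 ∧ M.1 0 0 = M.1 1 1)) := by
  haveI : CharP F 2 :=
    CharTwo.of_one_ne_zero_of_two_eq_zero one_ne_zero (two_eq_zero_four h4)
  have h2 : (2 : F) = 0 := CharTwo.two_eq_zero
  have c3 : ∀ y : Fˣ, (y : F) ^ 3 = 1 := fun y => cube_one h4 y.ne_zero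
  have hN' : (N : F) ^ 2 + N + 1 = 0 := by
    have : ((N : F) - 1) * ((N : F) ^ 2 + N + 1) = 0 := by linear_combination c3 N
    exact (mul_eq_zero.1 this).resolve_left (sub_ne_zero.2 hN)
  -- some state has `A² ≠ B ≠ 1`, or is already good
  have pre : (∃ A B, St g A B ∧ B ≠ 1 ∧ ev A B 7 ≠ 1) ∨
      ∃ q ∈ Q F 1, ∃ p ∈ P F 1, ∃ M : GL (Fin 2) F, Cj g (q * psi M * p) ∧
        (M.1 0 1 = 0 ∧ M.1 1 0 = 0 ∧ M.1 0 0 = M.1 1 1) := by
    have hb : ∀ A B, Nd g 1 A B → ∃ A B, St g A B ∧ B ≠ 1 ∧ ev A B 7 ≠ 1 := by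
      intro A B h
      have ne7 : ∀ Y : Fˣ, (A : F) ^ 2 ≠ Y → ev A Y 7 ≠ 1 := fun Y hY e => hY (by
        have := congrArg Units.val e
        rw [ev7, Units.val_one, div_eq_one_iff_eq Y.ne_zero] at this
        exact this)
      by_cases hA : (A : F) ^ 2 = N
      · refine ⟨A, N ^ 2, set_B h _, fun e => ?_, ne7 _ ?_⟩
        · have := congrArg Units.val e
          simp only [Units.val_pow_eq_pow_val, Units.val_one] at this
          exact N.ne_zero (by linear_combination hN' - this - h2)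
        · rw [hA, Units.val_pow_eq_pow_val]
          intro e
          exact hN (mul_left_cancel₀ N.ne_zero (by linear_combination -e))
      · exact ⟨A, N, set_B h _, fun e => hN (by rw [e]; rfl), ne7 _ hA⟩
    obtain ⟨A, B, h | h⟩ := exists_nd hg hg1
    · by_cases hB : B = 1
      · subst hB
        have hs := set_A h N
        obtain ⟨q, hq, p, hp, a, b, hc⟩ := hs.split 1
        have he : ev N 1 (sr 1) = 1 := by
          apply Units.ext
          rw [show sr 1 = 6 from rfl, ev6]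
          simp [c3 N]
        by_cases hab : a = 0 ∧ b = 0
        · refine Or.inr ⟨q, hq, p, hp, ?_⟩
          obtain ⟨rfl, rfl⟩ := hab
          have e0 : (up (0 : F)) = 1 := by
            apply Subtype.ext; ext i j; fin_cases i <;> fin_cases j <;> simp [up]
          obtain ⟨M, hM, -, hc'⟩ := to_levi (g := g) (a := 0) (b := 0) (q := q) (p := p)
            (A := N) (B := 1) (by
              rwa [e0, map_one, one_mul, ← mul_one (lo (0 : F)), ← e0])
          refine ⟨M, hc', ?_⟩
          rw [hM]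
          have := N.ne_zero
          refine ⟨by simp, by simp, ?_⟩
          simp
          field_simp
          linear_combination -(c3 N)
        · exact Or.inl (hb N 1 ⟨q, hq, p, hp, a, b, hc,
            Or.inr (not_and_or.1 hab)⟩)
      · refine Or.inl ⟨1, B, set_A h 1, hB, fun e => hB ?_⟩
        have := congrArg Units.val e
        rw [ev7, Units.val_one, one_pow, div_eq_one_iff_eq B.ne_zero] at this
        exact Units.ext this.symm
    · exact Or.inl (hb A B h)
  rcases pre with ⟨A, B, hs, hB, he⟩ | ⟨q, hq, p, hp, M, hc, hM⟩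
  swap
  · exact ⟨q, hq, p, hp, M, hc, Or.inr hM⟩
  by_contra hbad
  obtain ⟨q, hq, p, hp, a, b, hc⟩ := hs.split 0
  set lam := ev A B (sr 0) with hlam
  have hlam1 : lam ≠ 1 := he
  set s := lo a * up b with hsdef
  obtain ⟨dq, hdq⟩ := cubic_Q hq
  obtain ⟨dp, hdp⟩ := cubic_P hp
  have hdet : (mat lam s).det = lam := by
    have := s.2
    rw [det_fin_two] at this
    rw [mat, det_fin_two_of]
    linear_combination (lam : F) * this
  refine cubic_contra N.ne_zero hN (c3 N) (M := mat lam s) (mat_nonscalar (Or.inl hlam1))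
    (by rw [hdet]; exact lam.ne_zero)
    (by rw [hdet]; exact fun e => hlam1 (Units.ext e)) dq fun e he' => ?_
  have hB' : (1 : F) + B ≠ 0 := fun e1 => hB (Units.ext (by
    rw [Units.val_one]; linear_combination e1 - h2))
  set c := cub dp (e 1) (e 0) with hcdef
  set k := wedge (mat lam s) e
  have main : ∀ τ : F, τ ≠ 0 →
      cub dq ((mat lam s *ᵥ e) 1 + τ * e 1) ((mat lam s *ᵥ e) 0 + τ * e 0) * c = 1 + B := by
    intro τ hτ
    set K := mover (mat lam s) e τ he' with hK
    have hmm := mover_mat he' τ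
    rw [← hK] at hmm
    set S := K * s * twist lam K⁻¹
    have ht0 : S.1 0 0 ≠ 0 := fun e0 => hτ (by rw [← hmm, e0, zero_mul])
    set t : Fˣ := Units.mk0 _ ht0
    obtain ⟨h1, -, -⟩ := state_of_form (conj_mem (phi_norm_Q 0 K) hq)
      (conj_mem (phi_norm_P 0 K) hp) (conj_form hc K) (t := t) rfl
    have hcQ := hdq K
    have hcP := hdp K
    set q' := phi 0 K * q * (phi 0 K)⁻¹
    set p' := phi 0 K * p * (phi 0 K)⁻¹
    set cQ := cub dq (K.1 0 0) (K.1 0 1) with hcQd
    set cP := cub dp (K.1 1 0) (K.1 1 1) with hcPd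
    set lq := (X 5 cQ)⁻¹ * q'
    set lp := (X 6 cP)⁻¹ * p'
    rw [phi_di_zero, tor_mul, one_mul] at h1
    rw [phi_lo] at h1
    set c4 := S.1 1 0 / (t : F)
    set w7 := (tor A B)⁻¹ * phi 0 (up (S.1 0 1 / (t : F))) * tor A B
    have hw7 : w7 ∈ P F 1 := by
      have := conj_mem (inv_mem (tor_mem_norm A B 0 1 1))
        (X_mem_L (show InL 0 1 1 7 by decide) (S.1 0 1 / (t : F)))
      rwa [inv_inv, ← show phi 0 (up (S.1 0 1 / (t : F))) = X 7 (S.1 0 1 / (t : F)) from
        phi_up 0 _] at this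
    have hq1 : X 5 cQ * (lq * X (sn 0) c4) * (X 5 cQ)⁻¹ ∈ Q F 1 := by
      have := conj_mem (phi_norm_Q 1 (lo cQ))
        (mul_mem (LB_le (-1) hcQ) (X_mem_L (show InL 0 (-1) 1 4 by decide) c4))
      rwa [phi_lo] at this
    have hp1 : (X 6 cP)⁻¹ * w7 * (X 6 cP) * lp ∈ P F 1 := by
      refine mul_mem ?_ (LB_le 1 hcP)
      have := conj_mem (inv_mem (phi_norm_P 1 (up cP))) hw7
      rwa [inv_inv, phi_up] at this
    obtain ⟨M, hM, hMd, hc'⟩ := to_levi (g := g) (A := t * A) (B := B) (a := cQ) (b := cP)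
      (q := X 5 cQ * (lq * X (sn 0) c4) * (X 5 cQ)⁻¹)
      (p := (X 6 cP)⁻¹ * w7 * (X 6 cP) * lp) (by
        have e1 : q' * X (sn 0) c4 * tor (t * A) B * (w7 * p') =
            X 5 cQ * (lq * X (sn 0) c4) * (X 5 cQ)⁻¹ * phi 1 (lo cQ) * tor (t * A) B *
              (phi 1 (up cP) * ((X 6 cP)⁻¹ * w7 * (X 6 cP) * lp)) := by
          rw [phi_lo, phi_up, show X (sn 1) cQ = X 5 cQ from rfl, show X (sr 1) cP = X 6 cP from rfl]
          simp only [lq, lp]
          group
        rwa [e1] at h1)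
    have htr : M.1.trace = 0 := by
      by_contra hne
      exact hbad ⟨_, hq1, _, hp1, M, hc', Or.inl hne⟩
    have prod : cQ * cP = 1 + B := by
      rw [hM, trace_fin_two] at htr
      simp at htr
      have hA0 : ((t : F) * (A : F)) ≠ 0 := mul_ne_zero t.ne_zero A.ne_zero
      have hB0 := B.ne_zero
      have hA3 : ((t : F) * A) ^ 3 = 1 := cube_one h4 hA0
      have hB2 : (B : F) ^ 2 + B + 1 = 0 := by
        have : ((B : F) - 1) * ((B : F) ^ 2 + B + 1) = 0 := by linear_combination c3 B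
        exact (mul_eq_zero.1 this).resolve_left
          (sub_ne_zero.2 fun e1 => hB (Units.ext e1))
      field_simp at htr
      -- `B² (1 + cQ cP) = 1`
      have h6 : (B : F) ^ 2 * (1 + cQ * cP) = 1 := by
        linear_combination htr - hA3 - h2
      linear_combination (B : F) * h6 - (1 + cQ * cP) * c3 B - h2
    have r1 : cP = c := by
      rw [hcPd, hcdef, hK, mover_entries]
      simp [CharTwo.neg_eq]
    have hk3 : k ^ 3 = 1 := cube_one h4 he'
    have r2 : cQ = cub dq ((mat lam s *ᵥ e) 1 + τ * e 1) ((mat lam s *ᵥ e) 0 + τ * e 0) := by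
      rw [hcQd, hK, mover_entries]
      simp [CharTwo.neg_eq, CharTwo.sub_eq_add, cub]
      have : k ≠ 0 := he'
      field_simp
      rw [show wedge (mat lam s) e = k from rfl, hk3]
      ring
    rw [← r2, ← r1, prod]
  have hc0 : c ≠ 0 := fun e0 => hB' (by rw [← main 1 one_ne_zero, e0, mul_zero])
  exact ⟨(1 + B) / c, div_ne_zero hB' hc0, fun τ hτ => by rw [← main τ hτ, mul_div_cancel_right₀ _ hc0]⟩

end G2Cov
end H55
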