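import Cfsg.Agent.H55.G2Cov.Four

/-!
`G₂(q)`, `q ≥ 3`: a semisimple class whose square covers the nontrivial elements.
-/

set_option autoImplicit false

namespace H55
namespace G2Cov

open Cfsg.Lie Matrix

variable {F : Type*} [Field F]

theorem exists_St_one (hF : ∃ a : F, a ≠ 0 ∧ a ≠ 1) {g : GL chevG2.Idx F}
    (hg : g ∈ chevG2.group F) (hg1 : g ≠ 1) : ∃ B, St g 1 B := by
  obtain ⟨A, B, h | h⟩ := exists_nd hg hg1
  · exact ⟨B, set_A h 1⟩
  · obtain ⟨v, hv⟩ : ∃ v : Fˣ, (A : F) ^ 2 ≠ v := by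
      obtain ⟨a, ha0, ha1⟩ := hF
      by_cases e : (A : F) ^ 2 = 1
      · exact ⟨Units.mk0 a ha0, by rw [e]; exact Ne.symm ha1⟩
      · exact ⟨1, e⟩
    refine ⟨v, set_A (St.nd (set_B h v) 0 fun e => hv ?_) 1⟩
    have := congrArg Units.val e
    rw [show sr 0 = 7 from rfl, ev7, Units.val_one, div_eq_one_iff_eq v.ne_zero] at this
    exact this

theorem cov_of_odd [Fintype F] (h2 : (2 : F) ≠ 0) (hF : ∃ a : F, a ≠ 0 ∧ a ≠ 1)
    {g : GL chevG2.Idx F} (hg : g ∈ chevG2.group F) (hg1 : g ≠ 1) :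
    Good (xe (2 : F) (-1)) 2 (-1) ∧ Cov (xe (2 : F) (-1)) g := by
  have h : Good (xe (2 : F) (-1)) 2 (-1) := by
    refine ⟨⟨?_, ?_, ?_⟩, ?_, Cj.refl _⟩ <;> simp
    · intro e; exact h2 (by linear_combination -e)
    · intro e; exact h2 (by linear_combination -e)
    · intro e; exact h2 (by linear_combination e)
    · intro e
      exact mul_ne_zero h2 (mul_ne_zero h2 h2) (by linear_combination e)
  refine ⟨h, ?_⟩
  obtain ⟨B, hB⟩ := exists_St_one hF hg hg1
  obtain ⟨q, hq, p, hp, M, hd, hc⟩ := hB.levi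
  rw [Units.val_one] at hd
  rcases isProd_odd h2 (τ := 2) h2 hd with hP | hP
  · exact cover hq hp hc h h (by simpa using hP)
  · refine cover hq hp hc h h.second ?_
    simpa [div_neg] using hP

theorem good_even [Fintype F] [CharP F 2] {g : Fˣ} (h : ∀ k : ℕ, 0 < k → k ≤ 6 → g ^ k ≠ 1) :
    Good (xe ((g : F) + (g : F) ^ 2) (g ^ 3)) ((g : F) + (g : F) ^ 2) (g ^ 3) := by
  have h2 : (2 : F) = 0 := CharTwo.two_eq_zero
  have hk : ∀ k : ℕ, 0 < k → k ≤ 6 → (g : F) ^ k ≠ 1 := fun k a b e =>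
    h k a b (Units.ext (by rw [Units.val_pow_eq_pow_val, e, Units.val_one]))
  refine ⟨⟨?_, ?_, ?_⟩, ?_, Cj.refl _⟩ <;> rw [Units.val_pow_eq_pow_val]
  · exact hk 3 (by norm_num) (by norm_num)
  · intro e
    have : (1 - (g : F) ^ 1) * (1 - (g : F) ^ 2) = 0 := by linear_combination e
    rcases mul_eq_zero.1 this with e1 | e1
    · exact hk 1 (by norm_num) (by norm_num) (sub_eq_zero.1 e1).symm
    · exact hk 2 (by norm_num) (by norm_num) (sub_eq_zero.1 e1).symm
  · intro e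
    have : (1 - (g : F) ^ 4) * (1 - (g : F) ^ 5) = 0 := by linear_combination e
    rcases mul_eq_zero.1 this with e1 | e1
    · exact hk 4 (by norm_num) (by norm_num) (sub_eq_zero.1 e1).symm
    · exact hk 5 (by norm_num) (by norm_num) (sub_eq_zero.1 e1).symm
  · intro e
    have : ((g : F) * (1 + g)) * ((g : F) * (1 + g)) = 0 := by
      linear_combination e + 2 * (g : F) ^ 3 * h2
    rcases mul_eq_zero.1 (mul_self_eq_zero.1 this) with e1 | e1
    · exact g.ne_zero e1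
    · exact hk 1 (by norm_num) (by norm_num) (by linear_combination e1 - h2)

theorem cov_of_even [Fintype F] [CharP F 2] {c : Fˣ} (h : ∀ k : ℕ, 0 < k → k ≤ 6 → c ^ k ≠ 1)
    {g : GL chevG2.Idx F} (hg : g ∈ chevG2.group F) (hg1 : g ≠ 1) :
    Cov (xe ((c : F) + (c : F) ^ 2) (c ^ 3)) g := by
  have h' := good_even h
  set τ : F := (c : F) + (c : F) ^ 2
  set N : Fˣ := c ^ 3
  have hF : ∃ a : F, a ≠ 0 ∧ a ≠ 1 := ⟨c, c.ne_zero, fun e =>
    h 1 one_pos (by norm_num) (by rw [pow_one]; exact Units.ext e)⟩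
  obtain ⟨B, hB⟩ := exists_St_one hF hg hg1
  obtain ⟨q, hq, p, hp, M, hd, hc⟩ := hB.levi
  rw [Units.val_one] at hd
  refine cover hq hp hc h' h'.second ?_
  have hN := N.ne_zero
  have hNN : M.1.det = (N : F) * ((N⁻¹ : Fˣ) : F) := by rw [hd, N.mul_inv]
  by_cases hs : M.1 0 1 = 0 ∧ M.1 1 0 = 0 ∧ M.1 0 0 = M.1 1 1
  · obtain ⟨e1, e2, e3⟩ := hs
    rw [det_fin_two, e1, e2, ← e3] at hd
    have hμ : M.1 0 0 = 1 := by
      rcases mul_self_eq_one_iff.1 (show M.1 0 0 * M.1 0 0 = 1 by linear_combination hd) with e | e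
      · exact e
      · rw [e, CharTwo.neg_eq]
    have e : M.1 = M.1 0 0 • 1 := by ext i j; fin_cases i <;> fin_cases j <;> simp [e1, e2, ← e3]
    rw [e, hμ]
    exact exists_factor_scalar hN (by field_simp) (by rw [N.mul_inv, one_mul])
  · refine isProd_split hN hNN (l := (c : F)) ?_ hs
    simp [τ, N]
    ring

theorem good_four [Fintype F] [CharP F 2] {N : Fˣ} (hN : (N : F) ≠ 1)
    (h4 : Fintype.card F = 4) : Good (xe (1 : F) N) 1 N := by
  have h2 : (2 : F) = 0 := CharTwo.two_eq_zero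
  refine ⟨⟨hN, ?_, ?_⟩, ?_, Cj.refl _⟩
  · simp
  · rw [cube_one h4 N.ne_zero]
    intro e
    exact N.ne_zero (by linear_combination -e + h2)
  · intro e
    exact one_ne_zero (α := F) (by linear_combination e + 2 * (N : F) * h2)

theorem cov_of_four [Fintype F] [CharP F 2] {N : Fˣ} (hN : (N : F) ≠ 1)
    (h4 : Fintype.card F = 4) {g : GL chevG2.Idx F} (hg : g ∈ chevG2.group F) (hg1 : g ≠ 1) :
    Cov (xe (1 : F) N) g := by
  have h := good_four hN h4
  have h2 : (2 : F) = 0 := CharTwo.two_eq_zero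
  have hN3 := cube_one h4 N.ne_zero
  have hN0 := N.ne_zero
  obtain ⟨q, hq, p, hp, M, hc, hM⟩ := four_state h4 hg hg1 hN
  have main : ∀ {τ₁ τ₂ : F} {N₁ N₂ : Fˣ} (μ : F), Good (xe (1 : F) N) τ₁ N₁ →
      Good (xe (1 : F) N) τ₂ N₂ → M.1.det = N₁ * N₂ → μ * μ = N₁ * N₂ → μ * τ₁ = N₁ * τ₂ →
      Cov (xe (1 : F) N) g := by
    intro τ₁ τ₂ N₁ N₂ μ g1 g2 hd hμ hτ
    refine cover hq hp hc g1 g2 ?_
    by_cases ht : M.1.trace = 0
    · obtain ⟨e1, e2, e3⟩ := hM.resolve_left fun h => h ht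
      rw [det_fin_two, e1, e2, ← e3, mul_zero, sub_zero, ← hμ] at hd
      have he : M.1 0 0 = μ := by
        rcases mul_self_eq_mul_self_iff.1 hd with e | e
        · exact e
        · rw [e, CharTwo.neg_eq]
      have e : M.1 = M.1 0 0 • 1 := by ext i j; fin_cases i <;> fin_cases j <;> simp [e1, e2, ← e3]
      rw [e, he]
      exact exists_factor_scalar N₁.ne_zero hτ hμ
    · exact isProd_two N₁.ne_zero hd ht
  set A := M.1.det with hA
  have hA0 : A ≠ 0 := Matrix.GeneralLinearGroup.det_ne_zero M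
  have hN' : (N : F) ^ 2 + N + 1 = 0 := by
    have : ((N : F) - 1) * ((N : F) ^ 2 + N + 1) = 0 := by linear_combination hN3
    exact (mul_eq_zero.1 this).resolve_left (sub_ne_zero.2 hN)
  have hcases : (A - 1) * ((A - N) * (A - (N : F) ^ 2)) = 0 := by
    linear_combination cube_one h4 hA0 - A ^ 2 * hN' + (A * N - 1) * hN3 + A * N * hN' - A * (N : F) * hN3
  rcases mul_eq_zero.1 hcases with e | e
  · refine main 1 h h.second ?_ ?_ ?_
    · rw [sub_eq_zero.1 e, N.mul_inv]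
    · rw [N.mul_inv, one_mul]
    · field_simp
  rcases mul_eq_zero.1 e with e | e
  · refine main ((N : F) ^ 2) h.second h.second ?_ ?_ ?_
    · rw [sub_eq_zero.1 e, Units.val_inv_eq_inv_val]
      field_simp
      linear_combination hN3
    · rw [Units.val_inv_eq_inv_val]
      field_simp
      linear_combination (hN3 + (N : F) ^ 3 * hN3)
    · rw [Units.val_inv_eq_inv_val]
      field_simp
      linear_combination hN3
  · refine main (N : F) h h ?_ rfl rfl
    rw [sub_eq_zero.1 e, pow_two]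

theorem exists_class [Fintype F] (p : ℕ) [Fact p.Prime] [CharP F p] (h3 : 3 ≤ Fintype.card F) :
    ∃ x ∈ chevG2.group F, ¬ p ∣ orderOf x ∧
      ∀ g ∈ chevG2.group F, g ≠ 1 → Cov x g := by
  classical
  obtain ⟨a, ha⟩ : ∃ a : Fˣ, orderOf a = Fintype.card F - 1 := by
    obtain ⟨a, ha⟩ := IsCyclic.exists_ofOrder_eq_natCard (α := Fˣ)
    exact ⟨a, by rw [ha, Nat.card_eq_fintype_card, Fintype.card_units]⟩
  have ha1 : (a : F) ≠ 1 := fun e => by
    rw [show a = 1 from Units.ext e, orderOf_one] at ha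
    omega
  have hF : ∃ b : F, b ≠ 0 ∧ b ≠ 1 := ⟨a, a.ne_zero, ha1⟩
  by_cases h2 : (2 : F) = 0
  · obtain rfl : p = 2 :=
      CharP.eq F ‹CharP F p› (CharTwo.of_one_ne_zero_of_two_eq_zero one_ne_zero h2)
    by_cases h4 : Fintype.card F = 4
    · exact ⟨xe (1 : F) a, psi_mem_group _, not_dvd_orderOf (good_four ha1 h4).disc,
        fun g hg hg1 => cov_of_four ha1 h4 hg hg1⟩
    · obtain ⟨n, -, hn⟩ := FiniteField.card F 2
      have h8 : 7 ≤ Fintype.card F - 1 := by
        have hn3 : 3 ≤ (n : ℕ) := by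
          rcases Nat.lt_or_ge (n : ℕ) 3 with h | h
          · have := n.pos
            interval_cases hh : (n : ℕ) <;> simp_all
          · exact h
        have := Nat.pow_le_pow_right (n := 2) (by norm_num) hn3
        rw [← hn] at this
        omega
      have hk : ∀ k : ℕ, 0 < k → k ≤ 6 → a ^ k ≠ 1 := fun k hk hk6 e => by
        have := Nat.le_of_dvd hk (orderOf_dvd_of_pow_eq_one e)
        omega
      exact ⟨xe _ (a ^ 3), psi_mem_group _, not_dvd_orderOf (good_even hk).disc,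
        fun g hg hg1 => cov_of_even hk hg hg1⟩
  · refine ⟨xe (2 : F) (-1), psi_mem_group _, ?_, fun g hg hg1 => (cov_of_odd h2 hF hg hg1).2⟩
    have h1 : X 7 (1 : F) ≠ 1 := X_ne_one (by norm_num)
    exact not_dvd_orderOf (cov_of_odd h2 hF (hC.rt_mem_group 7 1) h1).1.disc

end G2Cov
end H55
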