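import Cfsg.Agent.H55.G2Cov.Base

/-!
`G₂`: every nontrivial element is conjugate to some `v h u` on which a fundamental `SL₂` can act to
change one coordinate of `h` at will.
-/

set_option autoImplicit false

namespace H55
namespace G2Cov

open Cfsg.Lie Matrix

variable {F : Type*} [Field F]

theorem hC : H52.Checked chevG2 H52.tablesG2 := H52.checkedG2

/-- Coordinates of roots. -/
abbrev co (u k : ℕ) : ℤ := H52.tablesG2.co u k

/-- Roots whose `k`-th coordinate, up to the sign `σ`, is at least `m`. -/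
abbrev InL (k : ℕ) (σ : ℤ) (m : ℕ) (u : ℕ) : Prop := u < 12 ∧ (m : ℤ) ≤ σ * co u k

/-- The group of those roots. -/
noncomputable abbrev L (F : Type*) [Field F] (k : ℕ) (σ : ℤ) (m : ℕ) :
    Subgroup (GL chevG2.Idx F) := H52.genBy chevG2 F (InL k σ m)

theorem X_mem_L {k : ℕ} {σ : ℤ} {m u : ℕ} (h : InL k σ m u) (t : F) : X u t ∈ L F k σ m :=
  H52.rt_mem_genBy h t

theorem L_mono {k : ℕ} {σ : ℤ} {m m' : ℕ} (h : m ≤ m') : L F k σ m' ≤ L F k σ m :=
  H52.genBy_mono fun _ hu => ⟨hu.1, le_trans (by exact_mod_cast h) hu.2⟩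

theorem X_mem_norm {k : ℕ} {σ : ℤ} {m r : ℕ} (hk : k < 2) (hm : 1 ≤ m) (hr : r < 12)
    (h : 0 ≤ σ * co r k) (a : F) :
    X r a ∈ Subgroup.normalizer (L F k σ m : Set (GL chevG2.Idx F)) := by
  refine hC.rt_mem_normalizer_genBy hr (fun s hs => hs.1) ?_ (fun s u hs hu i j _ hj hco => ?_) a
  · intro hn
    have h1 := hn.2
    have h2 := hC.co_neg (r := r) hr (j := k) hk
    change H52.tablesG2.co (chevG2.neg r) k = -(co r k) at h2
    rw [show co (chevG2.neg r) k = -(co r k) from h2, mul_neg] at h1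
    have : (1 : ℤ) ≤ m := by exact_mod_cast hm
    linarith
  · refine ⟨hu, ?_⟩
    have e := hco k hk
    change co u k = (i : ℤ) * co r k + (j : ℤ) * co s k at e
    rw [e, show σ * ((i : ℤ) * co r k + (j : ℤ) * co s k) =
      (i : ℤ) * (σ * co r k) + (j : ℤ) * (σ * co s k) by ring]
    have h1 : 0 ≤ (i : ℤ) * (σ * co r k) := mul_nonneg (by positivity) h
    have h2 : (m : ℤ) * 1 ≤ (σ * co s k) * j :=
      mul_le_mul hs.2 (by exact_mod_cast hj) zero_le_one (le_trans (by positivity) hs.2)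
    linarith

theorem tor_mem_diag (A B : Fˣ) : tor A B ∈ chevG2.diagonalSubgroup F := hC.torus_mem_diag _

theorem tor_mem_norm (A B : Fˣ) (k : ℕ) (σ : ℤ) (m : ℕ) :
    tor A B ∈ Subgroup.normalizer (L F k σ m : Set (GL chevG2.Idx F)) :=
  hC.diag_mem_normalizer_genBy (fun _ hs => hs.1) (tor_mem_diag A B)

theorem diag_eq_tor {h : GL chevG2.Idx F} (hh : h ∈ chevG2.diagonalSubgroup F) :
    ∃ A B, h = tor A B := by
  rw [hC.diagonalSubgroup_eq] at hh
  obtain ⟨c, rfl⟩ := hh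
  exact ⟨c (0 : Fin 2), c (1 : Fin 2),
    congrArg _ (funext fun i => by fin_cases i <;> rfl)⟩

theorem conj_mem {H : Subgroup (GL chevG2.Idx F)} {c x : GL chevG2.Idx F}
    (hc : c ∈ Subgroup.normalizer (H : Set (GL chevG2.Idx F))) (hx : x ∈ H) : c * x * c⁻¹ ∈ H :=
  (Subgroup.mem_normalizer_iff.1 hc x).1 hx

/-- The other fundamental coordinate. -/
def oth : Fin 2 → ℕ := ![1, 0]

theorem oth_lt (i : Fin 2) : oth i < 2 := by fin_cases i <;> decide

theorem co_sr (i : Fin 2) : co (sr i) (oth i) = 0 := by fin_cases i <;> decide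

theorem co_sn (i : Fin 2) : co (sn i) (oth i) = 0 := by fin_cases i <;> decide

/-- Positive roots other than the fundamental one. -/
noncomputable abbrev P (F : Type*) [Field F] (i : Fin 2) : Subgroup (GL chevG2.Idx F) :=
  L F (oth i) 1 1

/-- Negative roots other than the negative of the fundamental one. -/
noncomputable abbrev Q (F : Type*) [Field F] (i : Fin 2) : Subgroup (GL chevG2.Idx F) :=
  L F (oth i) (-1) 1

theorem phi_mem_norm (i : Fin 2) (s : SpecialLinearGroup (Fin 2) F) {σ : ℤ} {m : ℕ} (hm : 1 ≤ m) :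
    phi i s ∈ Subgroup.normalizer (L F (oth i) σ m : Set (GL chevG2.Idx F)) := by
  refine (Subgroup.closure_le _).2 ?_ (phi_mem i s)
  rintro _ (⟨t, rfl⟩ | ⟨t, rfl⟩)
  · exact X_mem_norm (oth_lt i) hm (sr_lt i) (by rw [co_sr, mul_zero]) t
  · exact X_mem_norm (oth_lt i) hm (sn_lt i) (by rw [co_sn, mul_zero]) t

theorem phi_norm_P (i : Fin 2) (s : SpecialLinearGroup (Fin 2) F) :
    phi i s ∈ Subgroup.normalizer (P F i : Set (GL chevG2.Idx F)) := phi_mem_norm i s le_rfl

theorem phi_norm_Q (i : Fin 2) (s : SpecialLinearGroup (Fin 2) F) :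
    phi i s ∈ Subgroup.normalizer (Q F i : Set (GL chevG2.Idx F)) := phi_mem_norm i s le_rfl

theorem psi_mem_norm (M : GL (Fin 2) F) {σ : ℤ} {m : ℕ} (hm : 1 ≤ m) :
    psi M ∈ Subgroup.normalizer (L F 0 σ m : Set (GL chevG2.Idx F)) := by
  rw [psi_apply]
  exact mul_mem (tor_mem_norm _ _ _ _ _) (phi_mem_norm 1 _ hm)

theorem phi_mem_group (i : Fin 2) (s : SpecialLinearGroup (Fin 2) F) :
    phi i s ∈ chevG2.group F := by
  refine (Subgroup.closure_le _).2 ?_ (phi_mem i s)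
  rintro _ (⟨t, rfl⟩ | ⟨t, rfl⟩) <;> exact hC.rt_mem_group _ _

theorem tor_mem_group (A B : Fˣ) : tor A B ∈ chevG2.group F :=
  hC.diag_le_group (tor_mem_diag A B)

theorem psi_mem_group (M : GL (Fin 2) F) : psi M ∈ chevG2.group F := by
  rw [psi_apply]
  exact mul_mem (tor_mem_group _ _) (phi_mem_group _ _)

theorem L_le_group (k : ℕ) (σ : ℤ) (m : ℕ) : L F k σ m ≤ chevG2.group F := by
  refine (Subgroup.closure_le _).2 ?_
  rintro _ ⟨r, t, -, rfl⟩
  exact hC.rt_mem_group _ _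

/-! ### The two unipotent groups -/

/-- The positive unipotent group. -/
noncomputable abbrev U (F : Type*) [Field F] := chevG2.posUnipotent F

/-- The negative unipotent group. -/
noncomputable abbrev V (F : Type*) [Field F] := chevG2.negUnipotent F

theorem X_mem_U {r : ℕ} (h : 6 ≤ r) (hr : r < 12) (t : F) : X r t ∈ U F := hC.rt_mem_pos h hr t

theorem X_mem_V {r : ℕ} (h : r < 6) (t : F) : X r t ∈ V F := hC.rt_mem_neg h t

theorem P_le_U (i : Fin 2) : P F i ≤ U F := by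
  refine (Subgroup.closure_le _).2 ?_
  rintro _ ⟨r, t, ⟨hr, h⟩, rfl⟩
  refine X_mem_U ?_ hr t
  have key : ∀ i : Fin 2, ∀ r < 12, (1 : ℤ) ≤ 1 * co r (oth i) → 6 ≤ r := by decide
  exact key i r hr h

theorem Q_le_V (i : Fin 2) : Q F i ≤ V F := by
  refine (Subgroup.closure_le _).2 ?_
  rintro _ ⟨r, t, ⟨hr, h⟩, rfl⟩
  refine X_mem_V ?_ t
  have key : ∀ i : Fin 2, ∀ r < 12, (1 : ℤ) ≤ -1 * co r (oth i) → r < 6 := by decide
  exact key i r hr h

theorem phi_up_mem (i : Fin 2) (t : F) : phi i (up t) ∈ U F := by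
  rw [phi_up]
  exact X_mem_U (by fin_cases i <;> decide) (sr_lt i) t

theorem phi_lo_mem (i : Fin 2) (t : F) : phi i (lo t) ∈ V F := by
  rw [phi_lo]
  exact X_mem_V (by fin_cases i <;> decide) t

/-- The additive one-parameter group of a root. -/
noncomputable def xh (r : ℕ) : Multiplicative F →* GL chevG2.Idx F :=
  MonoidHom.mk' (fun t => X r t.toAdd) fun a b => (hC.rt_mul r a.toAdd b.toAdd).symm

theorem U_split {u : GL chevG2.Idx F} (hu : u ∈ U F) (i : Fin 2) :
    ∃ b : F, ∃ p ∈ P F i, u = phi i (up b) * p := by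
  have hn : (xh (F := F) (sr i)).range ≤ Subgroup.normalizer (P F i : Set (GL chevG2.Idx F)) := by
    rintro _ ⟨t, rfl⟩
    have := phi_norm_P i (up t.toAdd)
    rwa [phi_up] at this
  have hle : U F ≤ (xh (F := F) (sr i)).range ⊔ P F i := by
    rw [U, hC.posUnipotent_eq, H52.upper, Subgroup.closure_le]
    rintro _ ⟨r, t, h1, h2, rfl⟩
    have key : ∀ i : Fin 2, ∀ r < 12, 6 ≤ r → r = sr i ∨ (1 : ℤ) ≤ 1 * co r (oth i) := by decide
    rcases key i r h2 h1 with h | h
    · exact Subgroup.mem_sup_left ⟨Multiplicative.ofAdd t, by rw [h]; rfl⟩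
    · exact Subgroup.mem_sup_right (X_mem_L ⟨h2, h⟩ t)
  have h := hle hu
  rw [← SetLike.mem_coe, Subgroup.coe_mul_of_left_le_normalizer_right _ _ hn] at h
  obtain ⟨_, ⟨t, rfl⟩, p, hp, rfl⟩ := h
  exact ⟨t.toAdd, p, hp, by rw [phi_up]; rfl⟩

theorem V_split {v : GL chevG2.Idx F} (hv : v ∈ V F) (i : Fin 2) :
    ∃ a : F, ∃ q ∈ Q F i, v = q * phi i (lo a) := by
  have hn : (xh (F := F) (sn i)).range ≤ Subgroup.normalizer (Q F i : Set (GL chevG2.Idx F)) := by
    rintro _ ⟨t, rfl⟩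
    have := phi_norm_Q i (lo t.toAdd)
    rwa [phi_lo] at this
  have hle : V F ≤ Q F i ⊔ (xh (F := F) (sn i)).range := by
    rw [V, hC.negUnipotent_eq, Subgroup.closure_le]
    rintro _ ⟨r, t, h1, rfl⟩
    have key : ∀ i : Fin 2, ∀ r < 6, r = sn i ∨ (1 : ℤ) ≤ -1 * co r (oth i) := by decide
    rcases key i r h1 with h | h
    · exact Subgroup.mem_sup_right ⟨Multiplicative.ofAdd t, by rw [h]; rfl⟩
    · exact Subgroup.mem_sup_left
        (X_mem_L ⟨lt_trans (show r < 6 from h1) (by norm_num), h⟩ t)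
  have h := hle hv
  rw [← SetLike.mem_coe, Subgroup.coe_mul_of_right_le_normalizer_left _ _ hn] at h
  obtain ⟨q, hq, _, ⟨t, rfl⟩, rfl⟩ := h
  exact ⟨t.toAdd, q, hq, by rw [phi_lo]; rfl⟩

theorem tor_conj_U (A B : Fˣ) {u : GL chevG2.Idx F} (hu : u ∈ U F) :
    tor A B * u * (tor A B)⁻¹ ∈ U F :=
  hC.diag_conj_pos (tor_mem_diag A B) hu

theorem tor_conj_V (A B : Fˣ) {v : GL chevG2.Idx F} (hv : v ∈ V F) :
    tor A B * v * (tor A B)⁻¹ ∈ V F := by
  rw [V, hC.negUnipotent_eq] at hv ⊢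
  induction hv using Subgroup.closure_induction with
  | mem x hx =>
    obtain ⟨r, t, h1, rfl⟩ := hx
    exact Subgroup.subset_closure
      ⟨r, (ev A B r : F) * t, h1, tor_X A B (lt_trans (show r < 6 from h1) (by norm_num)) t⟩
  | one => simp
  | mul x y _ _ hx hy =>
    have := mul_mem hx hy
    rwa [show tor A B * x * (tor A B)⁻¹ * (tor A B * y * (tor A B)⁻¹) =
      tor A B * (x * y) * (tor A B)⁻¹ by group] at this
  | inv x _ hx =>
    have := inv_mem hx
    rwa [show (tor A B * x * (tor A B)⁻¹)⁻¹ = tor A B * x⁻¹ * (tor A B)⁻¹ by group] at this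

/-! ### Decomposition of elements -/

theorem sl2_uldu (s : SpecialLinearGroup (Fin 2) F) :
    ∃ (a b : F) (t : Fˣ) (c : F), s = up a * lo b * di t * up c := by
  have key : ∀ v : SpecialLinearGroup (Fin 2) F, v.1 0 0 ≠ 0 →
      ∃ (b : F) (t : Fˣ) (c : F), v = lo b * di t * up c := by
    intro v hv
    have hd := v.2
    rw [det_fin_two] at hd
    refine ⟨v.1 1 0 / v.1 0 0, Units.mk0 _ hv, v.1 0 1 / v.1 0 0, Subtype.ext ?_⟩
    rw [sl_val_mul, sl_val_mul]
    simp only [lo, di, up]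
    ext i j
    fin_cases i <;> fin_cases j <;> simp [mul_apply, Fin.sum_univ_two] <;> field_simp
    linear_combination hd
  by_cases h : s.1 0 0 = 0
  · have h2 : (up 1 * s).1 0 0 ≠ 0 := by
      rw [sl_val_mul]
      simp [up, mul_apply, Fin.sum_univ_two, h]
      intro e
      have hd := s.2
      rw [det_fin_two, h, e] at hd
      simp at hd
    obtain ⟨b, t, c, e⟩ := key _ h2
    refine ⟨-1, b, t, c, ?_⟩
    rw [mul_assoc (up (-1)), mul_assoc (up (-1)), ← e, ← mul_assoc]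
    have : up (-1 : F) * up 1 = 1 := by
      apply Subtype.ext
      rw [sl_val_mul]
      ext i j
      fin_cases i <;> fin_cases j <;> simp [up, mul_apply, Fin.sum_univ_two]
    rw [this, one_mul]
  · obtain ⟨b, t, c, e⟩ := key _ h
    refine ⟨0, b, t, c, ?_⟩
    have : up (0 : F) = 1 := by
      apply Subtype.ext
      ext i j
      fin_cases i <;> fin_cases j <;> simp [up]
    rw [this, one_mul, e]

theorem phi_di_tor (i : Fin 2) (t : Fˣ) : ∃ A B, phi i (di t) = tor A B := by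
  fin_cases i
  · exact ⟨t, 1, phi_di_zero t⟩
  · exact ⟨1, t, phi_di_one t⟩

/-- The fundamental root groups generate. -/
theorem gen_induction {p : GL chevG2.Idx F → Prop} (one : p 1)
    (step : ∀ (i : Fin 2) s c, p c → p (phi i s * c)) {c : GL chevG2.Idx F}
    (hc : c ∈ chevG2.group F) : p c := by
  set S : Set (GL chevG2.Idx F) := Set.range (phi 0) ∪ Set.range (phi 1) with hS
  have hin : ∀ i, Set.range (phi (F := F) i) ⊆ S := by
    intro i
    fin_cases i
    · exact Set.subset_union_left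
    · exact Set.subset_union_right
  have hK : chevG2.group F ≤ Subgroup.closure S := by
    have hX : ∀ i : Fin 2, ∀ t : F, X (sr i) t ∈ Subgroup.closure S ∧
        X (sn i) t ∈ Subgroup.closure S := fun i t =>
      ⟨phi_up i t ▸ Subgroup.subset_closure (hin i ⟨_, rfl⟩),
        phi_lo i t ▸ Subgroup.subset_closure (hin i ⟨_, rfl⟩)⟩
    have hn : ∀ j < 2, H52.nElt chevG2 (chevG2.simple j) (1 : F) ∈ Subgroup.closure S := by
      intro j hj
      rw [H52.Checked.nElt_eq]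
      interval_cases j
      · exact mul_mem (mul_mem (hX 0 _).1 (hX 0 _).2) (hX 0 _).1
      · exact mul_mem (mul_mem (hX 1 _).1 (hX 1 _).2) (hX 1 _).1
    rw [hC.group_eq, Subgroup.closure_le]
    rintro _ ⟨r, t, hr, rfl⟩
    refine hC.orbit_induction (fun r => ∀ t : F, X r t ∈ Subgroup.closure S) ?_ ?_ hr t
    · intro j hj t
      change j < 2 at hj
      interval_cases j
      · exact (hX 0 t).1
      · exact (hX 1 t).1
    · intro j hj r hr h t
      have : X (chevG2.reflectRoot j r) t = H52.nElt chevG2 (chevG2.simple j) (1 : F) *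
          X r ((H52.tablesG2.eps j r : F) * t) *
          (H52.nElt chevG2 (chevG2.simple j) (1 : F))⁻¹ := by
        rw [hC.sig_conj_rt hj hr, ← mul_assoc, H52.Checked.eps_cast_mul_self, one_mul]
      rw [this]
      exact mul_mem (mul_mem (hn j hj) (h _)) (inv_mem (hn j hj))
  have hc' := hK hc
  clear hc hK
  induction hc' using Subgroup.closure_induction_left with
  | one => exact one
  | mul_left x hx y _ hy =>
    rcases hx with ⟨s, rfl⟩ | ⟨s, rfl⟩
    · exact step 0 s y hy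
    · exact step 1 s y hy
  | inv_mul_cancel x hx y _ hy =>
    rcases hx with ⟨s, rfl⟩ | ⟨s, rfl⟩
    · rw [← map_inv]; exact step 0 _ y hy
    · rw [← map_inv]; exact step 1 _ y hy

theorem exists_uvhu {g : GL chevG2.Idx F} (hg : g ∈ chevG2.group F) :
    ∃ u ∈ U F, ∃ v ∈ V F, ∃ (A B : Fˣ), ∃ u' ∈ U F, g = u * v * tor A B * u' := by
  refine gen_induction (p := fun g => ∃ u ∈ U F, ∃ v ∈ V F, ∃ (A B : Fˣ), ∃ u' ∈ U F,
    g = u * v * tor A B * u') ⟨1, one_mem _, 1, one_mem _, 1, 1, 1, one_mem _, by simp [tor_one]⟩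
    ?_ hg
  rintro i s _ ⟨u, hu, v, hv, A, B, u', hu', rfl⟩
  obtain ⟨a, b, t, c, rfl⟩ := sl2_uldu s
  set h := tor A B with hh
  obtain ⟨w, p, hp, e1⟩ := U_split (mul_mem (phi_up_mem i c) hu) i
  obtain ⟨t₁, t₂, e0⟩ := phi_di_tor i t
  -- move the torus factor to the right
  set s₀ : SpecialLinearGroup (Fin 2) F := lo b * di t * up w with hs₀
  obtain ⟨d, q, hq, e2⟩ : ∃ d : F, ∃ q ∈ Q F i, v = q * phi i (lo d) := V_split hv i
  obtain ⟨a', b', t', c', e3⟩ := sl2_uldu (s₀ * lo d)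
  set K : SpecialLinearGroup (Fin 2) F := lo b' * di t' * up c' with hK
  set K' : SpecialLinearGroup (Fin 2) F := K * (lo d)⁻¹
  have eK : s₀ * lo d = up a' * K := by rw [e3, hK]; simp only [mul_assoc]
  obtain ⟨t₃, t₄, e4⟩ := phi_di_tor i t'
  refine ⟨phi i (up a) * (phi i s₀ * p * (phi i s₀)⁻¹) * phi i (up a'), ?_,
    phi i K' * q * (phi i K')⁻¹ * phi i (lo b'), ?_, t₃ * A, t₄ * B,
    (h⁻¹ * phi i (up c') * h) * u', ?_, ?_⟩
  · exact mul_mem (mul_mem (phi_up_mem i a) (P_le_U i (conj_mem (phi_norm_P i s₀) hp)))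
      (phi_up_mem i a')
  · exact mul_mem (Q_le_V i (conj_mem (phi_norm_Q i K') hq)) (phi_lo_mem i b')
  · refine mul_mem ?_ hu'
    have := tor_conj_U A⁻¹ B⁻¹ (phi_up_mem i c')
    rw [← tor_inv, inv_inv] at this
    exact this
  · calc phi i (up a * lo b * di t * up c) * (u * v * h * u')
        = phi i (up a) * (phi i (lo b) * phi i (di t) * (phi i (up c) * u)) * v * h * u' := by
          simp only [map_mul, mul_assoc]
      _ = phi i (up a) * (phi i s₀ * p) * (q * phi i (lo d)) * h * u' := by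
          rw [e1, e2, hs₀]; simp only [map_mul, mul_assoc]
      _ = phi i (up a) * (phi i s₀ * p * (phi i s₀)⁻¹) *
            (phi i s₀ * q * phi i (lo d)) * h * u' := by group
      _ = phi i (up a) * (phi i s₀ * p * (phi i s₀)⁻¹) *
            (phi i (up a') * (phi i K' * q * (phi i K')⁻¹) * phi i K) * h * u' := by
          have : s₀ = up a' * K' := by
            rw [show K' = K * (lo d)⁻¹ from rfl, ← mul_assoc, ← eK, mul_inv_cancel_right]
          rw [this]
          simp only [show phi i K' = phi i K * (phi i (lo d))⁻¹ by rw [← map_inv, ← map_mul],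
            map_mul]
          group
      _ = _ := by
          rw [← tor_mul t₃ t₄, ← e4, hK]
          simp only [map_mul]
          group
          simp [hh]

/-- Conjugate in the group. -/
def Cj (g g' : GL chevG2.Idx F) : Prop := ∃ c ∈ chevG2.group F, c * g * c⁻¹ = g'

theorem Cj.conj {g g' : GL chevG2.Idx F} (h : Cj g g') {c : GL chevG2.Idx F}
    (hc : c ∈ chevG2.group F) : Cj g (c * g' * c⁻¹) := by
  obtain ⟨d, hd, rfl⟩ := h
  exact ⟨c * d, mul_mem hc hd, by group⟩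

/-- `g` is conjugate to some `v h_a(A) h_b(B) u`. -/
def St (g : GL chevG2.Idx F) (A B : Fˣ) : Prop :=
  ∃ v ∈ V F, ∃ u ∈ U F, Cj g (v * tor A B * u)

/-- A conjugate adapted to the fundamental root `i`, not central in the `SL₂` part. -/
def Nd (g : GL chevG2.Idx F) (i : Fin 2) (A B : Fˣ) : Prop :=
  ∃ q ∈ Q F i, ∃ p ∈ P F i, ∃ a b : F, Cj g (q * phi i (lo a * up b) * tor A B * p) ∧
    (ev A B (sr i) ≠ 1 ∨ a ≠ 0 ∨ b ≠ 0)

theorem exists_St {g : GL chevG2.Idx F} (hg : g ∈ chevG2.group F) : ∃ A B, St g A B := by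
  obtain ⟨u, hu, v, hv, A, B, u', hu', rfl⟩ := exists_uvhu hg
  exact ⟨A, B, v, hv, u' * u, mul_mem hu' hu, u⁻¹,
    inv_mem (hC.posUnipotent_le_group hu), by group⟩

theorem St.split {g : GL chevG2.Idx F} {A B : Fˣ} (h : St g A B) (i : Fin 2) :
    ∃ q ∈ Q F i, ∃ p ∈ P F i, ∃ a b : F,
      Cj g (q * phi i (lo a * up b) * tor A B * p) := by
  obtain ⟨v, hv, u, hu, hg⟩ := h
  obtain ⟨a, q, hq, rfl⟩ := V_split hv i
  obtain ⟨b, p, hp, rfl⟩ := U_split hu i
  refine ⟨q, hq, p, hp, a, (ev A B (sr i) : F) * b, ?_⟩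
  have e : tor A B * phi i (up b) = phi i (up ((ev A B (sr i) : F) * b)) * tor A B := by
    rw [tor_phi', twist_up]
  have : q * phi i (lo a * up ((ev A B (sr i) : F) * b)) * tor A B * p =
      q * phi i (lo a) * tor A B * (phi i (up b) * p) := by
    rw [map_mul, mul_assoc (q * phi i (lo a)) (tor A B), ← mul_assoc (tor A B), e]
    group
  rwa [this]

theorem St.nd {g : GL chevG2.Idx F} {A B : Fˣ} (h : St g A B) (i : Fin 2)
    (he : ev A B (sr i) ≠ 1) : Nd g i A B := by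
  obtain ⟨q, hq, p, hp, a, b, hg⟩ := h.split i
  exact ⟨q, hq, p, hp, a, b, hg, Or.inl he⟩

/-! ### The move -/

/-- The `GL₂` matrix of the `SL₂` part. -/
def mat (lam : Fˣ) (s : SpecialLinearGroup (Fin 2) F) : Matrix (Fin 2) (Fin 2) F :=
  !![s.1 0 0 * lam, s.1 0 1; s.1 1 0 * lam, s.1 1 1]

theorem mat_nonscalar {lam : Fˣ} {a b : F} (h : lam ≠ 1 ∨ a ≠ 0 ∨ b ≠ 0) :
    ¬ (mat lam (lo a * up b) 0 1 = 0 ∧ mat lam (lo a * up b) 1 0 = 0 ∧
      mat lam (lo a * up b) 0 0 = mat lam (lo a * up b) 1 1) := by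
  rw [mat, sl_val_mul]
  simp [lo, up, mul_apply, Fin.sum_univ_two]
  intro hb
  subst hb
  intro ha
  subst ha
  simp at h ⊢
  exact fun e => h e

theorem conj_form {g : GL chevG2.Idx F} {i : Fin 2} {A B : Fˣ} {q p : GL chevG2.Idx F}
    {s : SpecialLinearGroup (Fin 2) F} (h : Cj g (q * phi i s * tor A B * p))
    (K : SpecialLinearGroup (Fin 2) F) :
    Cj g (phi i K * q * (phi i K)⁻¹ * phi i (K * s * twist (ev A B (sr i)) K⁻¹) * tor A B *
      (phi i K * p * (phi i K)⁻¹)) := by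
  have := h.conj (phi_mem_group i K)
  have e : phi i K * (q * phi i s * tor A B * p) * (phi i K)⁻¹ =
      phi i K * q * (phi i K)⁻¹ * phi i (K * s * twist (ev A B (sr i)) K⁻¹) * tor A B *
      (phi i K * p * (phi i K)⁻¹) := by
    have h1 : tor A B * (phi i K)⁻¹ = phi i (twist (ev A B (sr i)) K⁻¹) * tor A B := by
      rw [← map_inv, tor_phi']
    rw [map_mul, map_mul]
    calc phi i K * (q * phi i s * tor A B * p) * (phi i K)⁻¹
        = phi i K * q * (phi i K)⁻¹ * (phi i K * phi i s * (tor A B * (phi i K)⁻¹)) *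
            (phi i K * p * (phi i K)⁻¹) := by group
      _ = _ := by rw [h1]; simp only [mul_assoc]
  rwa [e] at this

theorem conj_mat (lam : Fˣ) (K s : SpecialLinearGroup (Fin 2) F) :
    mat lam (K * s * twist lam K⁻¹) = K.1 * mat lam s * (K⁻¹).1 := by
  have e : ∀ v : SpecialLinearGroup (Fin 2) F, mat lam v = v.1 * !![(lam : F), 0; 0, 1] := by
    intro v
    ext a b
    fin_cases a <;> fin_cases b <;> simp [mat, mul_apply, Fin.sum_univ_two]
  have e2 : (twist lam K⁻¹).1 * !![(lam : F), 0; 0, 1] = !![(lam : F), 0; 0, 1] * (K⁻¹).1 := by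
    rw [twist_val]
    ext a b
    fin_cases a <;> fin_cases b <;>
      simp [mul_apply, Fin.sum_univ_two, Units.val_inv_eq_inv_val] <;> field_simp
  rw [e, e, sl_val_mul, sl_val_mul, mul_assoc (K.1 * s.1), e2]
  simp only [mul_assoc]

theorem mover_mat {lam : Fˣ} {s : SpecialLinearGroup (Fin 2) F} {e : Fin 2 → F}
    (he : wedge (mat lam s) e ≠ 0) (τ : F) :
    (mover (mat lam s) e τ he * s * twist lam (mover (mat lam s) e τ he)⁻¹).1 0 0 * lam = τ := by
  have := conj_mat lam (mover (mat lam s) e τ he) s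
  rw [mover_inv] at this
  have h2 := congrFun (congrFun this 0) 0
  rw [mover_spec τ he] at h2
  simpa [mat] using h2

theorem sl2_ldu {s : SpecialLinearGroup (Fin 2) F} {t : Fˣ} (h : s.1 0 0 = t) :
    s = lo (s.1 1 0 / t) * di t * up (s.1 0 1 / t) := by
  apply Subtype.ext
  rw [sl_val_mul, sl_val_mul]
  have hd := s.2
  rw [det_fin_two, h] at hd
  simp only [lo, di, up]
  ext a b
  fin_cases a <;> fin_cases b <;> simp [mul_apply, Fin.sum_univ_two, h] <;> field_simp
  linear_combination hd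

theorem state_of_form {g : GL chevG2.Idx F} {i : Fin 2} {A B : Fˣ} {q p : GL chevG2.Idx F}
    {s : SpecialLinearGroup (Fin 2) F} (hq : q ∈ Q F i) (hp : p ∈ P F i)
    (h : Cj g (q * phi i s * tor A B * p)) {t : Fˣ} (ht : s.1 0 0 = t) :
    Cj g (q * phi i (lo (s.1 1 0 / t)) * (phi i (di t) * tor A B) *
      ((tor A B)⁻¹ * phi i (up (s.1 0 1 / t)) * tor A B * p)) ∧
    q * phi i (lo (s.1 1 0 / t)) ∈ V F ∧
      (tor A B)⁻¹ * phi i (up (s.1 0 1 / t)) * tor A B * p ∈ U F := by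
  refine ⟨?_, mul_mem (Q_le_V i hq) (phi_lo_mem i _), mul_mem ?_ (P_le_U i hp)⟩
  · have : q * phi i (lo (s.1 1 0 / t)) * (phi i (di t) * tor A B) *
        ((tor A B)⁻¹ * phi i (up (s.1 0 1 / t)) * tor A B * p) =
        q * phi i (lo (s.1 1 0 / t) * di t * up (s.1 0 1 / t)) * tor A B * p := by
      simp only [map_mul]
      group
    rwa [this, ← sl2_ldu ht]
  · have := tor_conj_U A⁻¹ B⁻¹ (phi_up_mem i (s.1 0 1 / t))
    rwa [← tor_inv, inv_inv] at this

theorem move {g : GL chevG2.Idx F} {i : Fin 2} {A B : Fˣ} (h : Nd g i A B) (t : Fˣ) :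
    ∃ v ∈ V F, ∃ u ∈ U F, Cj g (v * (phi i (di t) * tor A B) * u) := by
  obtain ⟨q, hq, p, hp, a, b, hg, hne⟩ := h
  obtain ⟨e, he⟩ := exists_noneigen (mat_nonscalar hne)
  set lam := ev A B (sr i)
  set K := mover (mat lam (lo a * up b)) e ((t : F) * lam) he
  have h00 : (K * (lo a * up b) * twist lam K⁻¹).1 0 0 = t :=
    mul_right_cancel₀ lam.ne_zero (mover_mat he _)
  obtain ⟨h1, h2, h3⟩ := state_of_form (conj_mem (phi_norm_Q i K) hq)
    (conj_mem (phi_norm_P i K) hp) (conj_form hg K) h00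
  exact ⟨_, h2, _, h3, h1⟩

theorem set_A {g : GL chevG2.Idx F} {A B : Fˣ} (h : Nd g 0 A B) (A' : Fˣ) : St g A' B := by
  have := move h (A' * A⁻¹)
  rwa [phi_di_zero, tor_mul, inv_mul_cancel_right, one_mul] at this

theorem set_B {g : GL chevG2.Idx F} {A B : Fˣ} (h : Nd g 1 A B) (B' : Fˣ) : St g A B' := by
  have := move h (B' * B⁻¹)
  rwa [phi_di_one, tor_mul, inv_mul_cancel_right, one_mul] at this

/-! ### Some state can move -/

theorem U_inf_V {x : GL chevG2.Idx F} (h1 : x ∈ U F) (h2 : x ∈ V F) : x = 1 := by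
  have h : x ∈ chevG2.borelSubgroup F ⊓ chevG2.negUnipotent F :=
    ⟨(le_sup_left : U F ≤ _) h1, h2⟩
  rwa [hC.borel_inf_neg, Subgroup.mem_bot] at h

theorem X_ne_one {r : ℕ} (hr : r < 12) : X r (1 : F) ≠ 1 := fun h =>
  one_ne_zero (hC.rt_injective hr (h.trans (hC.rt_zero r).symm))

/-- A product of fundamental reflections. -/
noncomputable def nw (F : Type*) [Field F] : List ℕ → GL chevG2.Idx F
  | [] => 1
  | i :: l => H52.nElt chevG2 (chevG2.simple i) (1 : F) * nw F l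

theorem nw_mem_group (l : List ℕ) : nw F l ∈ chevG2.group F := by
  induction l with
  | nil => exact one_mem _
  | cons i l ih =>
    refine mul_mem ?_ ih
    rw [H52.Checked.nElt_eq]
    exact mul_mem (mul_mem (hC.rt_mem_group _ _) (hC.rt_mem_group _ _)) (hC.rt_mem_group _ _)

theorem nw_conj (l : List ℕ) (hl : ∀ i ∈ l, i < 2) {r : ℕ} (hr : r < 12) (t : F) :
    l.foldr chevG2.reflectRoot r < 12 ∧
      ∃ t', nw F l * X r t * (nw F l)⁻¹ = X (l.foldr chevG2.reflectRoot r) t' := by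
  induction l with
  | nil => exact ⟨hr, t, by simp [nw]⟩
  | cons i l ih =>
    obtain ⟨h, t', e⟩ := ih fun j hj => hl j (List.mem_cons_of_mem _ hj)
    have hi : i < chevG2.rank := hl i List.mem_cons_self
    refine ⟨hC.reflect_lt hi h, (H52.tablesG2.eps i (l.foldr chevG2.reflectRoot r) : F) * t', ?_⟩
    show H52.nElt chevG2 (chevG2.simple i) (1 : F) * nw F l * X r t *
      (H52.nElt chevG2 (chevG2.simple i) (1 : F) * nw F l)⁻¹ = _
    rw [List.foldr_cons]
    calc _ = H52.nElt chevG2 (chevG2.simple i) (1 : F) * (nw F l * X r t * (nw F l)⁻¹) *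
          (H52.nElt chevG2 (chevG2.simple i) (1 : F))⁻¹ := by group
      _ = _ := by rw [e]; exact hC.sig_conj_rt hi h t'

/-- The longest element of the Weyl group exchanges the two unipotent groups. -/
theorem longest_conj {x : GL chevG2.Idx F} :
    (x ∈ U F → nw F [0, 1, 0, 1, 0, 1] * x * (nw F [0, 1, 0, 1, 0, 1])⁻¹ ∈ V F) ∧
      (x ∈ V F → nw F [0, 1, 0, 1, 0, 1] * x * (nw F [0, 1, 0, 1, 0, 1])⁻¹ ∈ U F) := by
  set w := nw F [0, 1, 0, 1, 0, 1]
  have key : ∀ r < 12, [0, 1, 0, 1, 0, 1].foldr chevG2.reflectRoot r = 11 - r := by decide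
  have hX : ∀ r < 12, ∀ t : F, ∃ t', w * X r t * w⁻¹ = X (11 - r) t' := by
    intro r hr t
    obtain ⟨-, t', e⟩ := nw_conj (F := F) [0, 1, 0, 1, 0, 1] (by decide) hr t
    exact ⟨t', by rwa [key r hr] at e⟩
  constructor
  · intro hx
    have hle : U F ≤ (V F).comap (MulAut.conj w).toMonoidHom := by
      rw [U, hC.posUnipotent_eq, H52.upper, Subgroup.closure_le]
      rintro _ ⟨r, t, h1, h2, rfl⟩
      obtain ⟨t', e⟩ := hX r h2 t
      show w * X r t * w⁻¹ ∈ V F
      rw [e]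
      exact X_mem_V (by change 6 ≤ r at h1; omega) t'
    exact hle hx
  · intro hx
    have hle : V F ≤ (U F).comap (MulAut.conj w).toMonoidHom := by
      rw [V, hC.negUnipotent_eq, Subgroup.closure_le]
      rintro _ ⟨r, t, h1, rfl⟩
      change r < 6 at h1
      obtain ⟨t', e⟩ := hX r (by omega) t
      show w * X r t * w⁻¹ ∈ U F
      rw [e]
      exact X_mem_U (by omega) (by omega) t'
    exact hle hx

/-- A nontrivial element has a conjugate that can move. -/
theorem exists_nd {g : GL chevG2.Idx F}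
    (hg : g ∈ chevG2.group F) (hg1 : g ≠ 1) : ∃ A B, Nd g 0 A B ∨ Nd g 1 A B := by
  by_contra hno
  push Not at hno
  have hdeg : ∀ i A B, ¬ Nd g i A B := by
    intro i A B
    fin_cases i
    · exact (hno A B).1
    · exact (hno A B).2
  have key : ∀ A B, ∀ v ∈ V F, ∀ u ∈ U F, Cj g (v * tor A B * u) →
      A = 1 ∧ B = 1 ∧ ∀ i, v ∈ Q F i ∧ u ∈ P F i := by
    intro A B v hv u hu hc
    have he : ∀ i, ev A B (sr i) = 1 := fun i => by
      by_contra h
      exact hdeg i A B (St.nd ⟨v, hv, u, hu, hc⟩ i h)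
    refine ⟨?_, ?_, fun i => ?_⟩
    · have e0 : A ^ (2 : ℤ) * B ^ (-1 : ℤ) = 1 := he 0
      have e1 : A ^ (-3 : ℤ) * B ^ (2 : ℤ) = 1 := he 1
      have hB : B = A ^ (2 : ℤ) := by
        rw [_root_.zpow_neg_one, mul_inv_eq_one] at e0; exact e0.symm
      rw [hB, ← _root_.zpow_mul, ← _root_.zpow_add] at e1
      simpa using e1
    · have e0 : A ^ (2 : ℤ) * B ^ (-1 : ℤ) = 1 := he 0
      have e1 : A ^ (-3 : ℤ) * B ^ (2 : ℤ) = 1 := he 1
      have hB : B = A ^ (2 : ℤ) := by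
        rw [_root_.zpow_neg_one, mul_inv_eq_one] at e0; exact e0.symm
      rw [hB, ← _root_.zpow_mul, ← _root_.zpow_add] at e1
      have hA : A = 1 := by simpa using e1
      rw [hB, hA, _root_.one_zpow]
    · obtain ⟨a, q, hq, rfl⟩ := V_split hv i
      obtain ⟨b, p, hp, rfl⟩ := U_split hu i
      have e : tor A B * phi i (up b) = phi i (up ((ev A B (sr i) : F) * b)) * tor A B := by
        rw [tor_phi', twist_up]
      have hc' : Cj g (q * phi i (lo a * up b) * tor A B * p) := by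
        have : q * phi i (lo a * up b) * tor A B * p =
            q * phi i (lo a) * tor A B * (phi i (up b) * p) := by
          rw [map_mul, mul_assoc (q * phi i (lo a)) (tor A B), ← mul_assoc (tor A B), e, he,
            Units.val_one, one_mul]
          group
        rwa [this]
      have h0 : a = 0 ∧ b = 0 := by
        by_contra hab
        exact hdeg i A B ⟨q, hq, p, hp, a, b, hc', Or.inr (not_and_or.1 hab)⟩
      rw [h0.1, h0.2, phi_lo, phi_up]
      change q * H52.rt chevG2 _ 0 ∈ _ ∧ H52.rt chevG2 _ 0 * p ∈ _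
      rw [hC.rt_zero, hC.rt_zero, mul_one, one_mul]
      exact ⟨hq, hp⟩
  obtain ⟨A, B, v, hv, u, hu, hc⟩ := exists_St hg
  obtain ⟨rfl, rfl, -⟩ := key A B v hv u hu hc
  rw [tor_one, mul_one] at hc
  have orb : ∀ c ∈ chevG2.group F,
      Cj g (c * v * c⁻¹ * (c * u * c⁻¹)) ∧ c * v * c⁻¹ ∈ V F ∧ c * u * c⁻¹ ∈ U F := by
    intro c hcg
    refine gen_induction (p := fun c => Cj g (c * v * c⁻¹ * (c * u * c⁻¹)) ∧
      c * v * c⁻¹ ∈ V F ∧ c * u * c⁻¹ ∈ U F) ⟨by simpa using hc, by simpa using hv,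
        by simpa using hu⟩ ?_ hcg
    rintro i s c ⟨h1, h2, h3⟩
    obtain ⟨-, -, hQP⟩ := key 1 1 _ h2 _ h3 (by rw [tor_one, mul_one]; exact h1)
    have e : ∀ y : GL chevG2.Idx F, phi i s * c * y * (phi i s * c)⁻¹ =
        phi i s * (c * y * c⁻¹) * (phi i s)⁻¹ := fun y => by group
    refine ⟨?_, ?_, ?_⟩
    · have := h1.conj (phi_mem_group i s)
      rw [e, e]
      convert this using 1
      group
    · rw [e]; exact Q_le_V i (conj_mem (phi_norm_Q i s) (hQP i).1)
    · rw [e]; exact P_le_U i (conj_mem (phi_norm_P i s) (hQP i).2)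
  set w := nw F [0, 1, 0, 1, 0, 1]
  obtain ⟨-, hwv, hwu⟩ := orb w (nw_mem_group _)
  have one_of : ∀ y, w * y * w⁻¹ = 1 → y = 1 := fun y h => conj_eq_one_iff.1 h
  have hu1 : u = 1 := one_of u (U_inf_V hwu (longest_conj.1 hu))
  have hv1 : v = 1 := one_of v (U_inf_V (longest_conj.2 hv) hwv)
  rw [hu1, hv1, mul_one] at hc
  obtain ⟨c, -, h⟩ := hc
  exact hg1 (by simpa using h)

end G2Cov
end H55
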